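import Groth.Agent.Lib.RatGrp14.Base
import Groth.Agent.Lib.HopfPts19.Scheme
import Groth.Agent.Lib.PicNormal14.Rational
import Groth.Prelude.Def_AlgGrp
import Mathlib.AlgebraicGeometry.AffineSpace

/-!
# Connected linear groups are rational; invariance of line bundles
-/

set_option autoImplicit false
set_option linter.style.haveILetI false
set_option backward.isDefEq.respectTransparency false
set_option backward.isDefEq.respectTransparency.types false

universe u

open CategoryTheory MonoidalCategory CartesianMonoidalCategory MonObj AlgebraicGeometry Opposite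

noncomputable section

namespace Groth.Agent.RatGrp14

variable {k : Type u} [Field k] [IsAlgClosed k]

theorem isIntegral_left (G : Over (Spec (CommRingCat.of k))) [GrpObj G] [IsAffine G.left] [Smooth G.hom]
    [ConnectedSpace ↥G.left] : IsIntegral G.left := by
  haveI := AbRigid.irreducibleSpace_of_isAlgClosed G
  haveI : IsReduced G.left := by
    haveI : ∀ x : G.left, _root_.IsReduced (G.left.presheaf.stalk x) := fun x => by
      haveI := SmoothReg17.isDomain_stalk G.hom x
      infer_instance
    exact isReduced_of_isReduced_stalk G.left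
  exact isIntegral_of_irreducibleSpace_of_isReduced G.left

/-- A connected linear group has an open subscheme isomorphic to an open subscheme of affine space. -/
theorem exists_open_iso (G : Over (Spec (CommRingCat.of k))) [GrpObj G] [IsAffine G.left] [Smooth G.hom]
    [ConnectedSpace ↥G.left] :
    ∃ (U : G.left.Opens) (n : ℕ) (V : (𝔸(ULift.{u} (Fin n); Spec (CommRingCat.of k))).Opens)
      (e : (U : Scheme.{u}) ≅ (V : Scheme.{u})), (U : Set ↥G.left).Nonempty ∧
        e.hom ≫ V.ι ≫ (𝔸(ULift.{u} (Fin n); Spec (CommRingCat.of k)) ↘ Spec (CommRingCat.of k)) = U.ι ≫ G.hom := by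
  obtain ⟨A, _, _, ⟨m⟩⟩ := HopfPts19.exists_model G
  let φ : CoactBr.sp k A ≅ G := (Grp.forget _).mapIso m
  have hφ : φ.hom.left ≫ G.hom = Spec.map (CommRingCat.ofHom (algebraMap k A)) := Over.w φ.hom
  haveI : IsIso φ.hom.left := inferInstanceAs (IsIso ((Over.forget _).map φ.hom))
  haveI := isIntegral_left G
  haveI : IsIntegral (Spec (CommRingCat.of A)) := by
    haveI : Nonempty ↥(Spec (CommRingCat.of A)) := ⟨(inv φ.hom.left) (Classical.arbitrary G.left)⟩
    exact isIntegral_of_isOpenImmersion φ.hom.left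
  haveI : IsDomain A := (affine_isIntegral_iff (CommRingCat.of A)).1 inferInstance
  haveI : LocallyOfFiniteType (Spec.map (CommRingCat.ofHom (algebraMap k A))) := by rw [← hφ]; infer_instance
  haveI : Algebra.FiniteType k A := RingHom.finiteType_algebraMap.1
    ((HasRingHomProperty.Spec_iff (P := @LocallyOfFiniteType)).1 ‹_›)
  obtain ⟨n, ⟨e⟩⟩ := isRat_of_isDomain (k := k) A
  let P := MvPolynomial (ULift.{u} (Fin n)) k
  obtain ⟨x, y, hx, -, ⟨eA⟩⟩ := exists_away_equiv (k := k) (A := A) (B := P)
    (e.trans (IsFractionRing.algEquivOfAlgEquiv (MvPolynomial.renameEquiv k (Equiv.ulift.{u, 0} (α := Fin n)).symm)))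
  let j : Spec (CommRingCat.of (Localization.Away x)) ⟶ G.left :=
    Spec.map (CommRingCat.ofHom (algebraMap A (Localization.Away x))) ≫ φ.hom.left
  let j' : Spec (CommRingCat.of (Localization.Away y)) ⟶ 𝔸(ULift.{u} (Fin n); Spec (CommRingCat.of k)) :=
    Spec.map (CommRingCat.ofHom (algebraMap P (Localization.Away y))) ≫ (AffineSpace.SpecIso _ (CommRingCat.of k)).inv
  haveI : IsOpenImmersion (Spec.map (CommRingCat.ofHom (algebraMap A (Localization.Away x)))) :=
    IsOpenImmersion.of_isLocalization x
  haveI : IsOpenImmersion (Spec.map (CommRingCat.ofHom (algebraMap P (Localization.Away y)))) :=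
    IsOpenImmersion.of_isLocalization y
  let ε : Spec (CommRingCat.of (Localization.Away x)) ≅ Spec (CommRingCat.of (Localization.Away y)) :=
    Scheme.Spec.mapIso eA.toRingEquiv.symm.toCommRingCatIso.op
  refine ⟨j.opensRange, n, j'.opensRange, j.isoOpensRange.symm ≪≫ ε ≪≫ j'.isoOpensRange, ?_, ?_⟩
  · haveI : IsDomain (Localization.Away x) :=
      IsLocalization.isDomain_localization (powers_le_nonZeroDivisors_of_noZeroDivisors hx)
    exact ⟨j (Classical.arbitrary (PrimeSpectrum (Localization.Away x))), ⟨_, rfl⟩⟩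
  · rw [← cancel_epi j.isoOpensRange.hom]
    simp only [Iso.trans_hom, Iso.symm_hom, Category.assoc, Iso.hom_inv_id_assoc, Scheme.Hom.isoOpensRange_hom_ι_assoc]
    simp only [j, j', Category.assoc, AffineSpace.SpecIso_inv_over, hφ]
    show Spec.map _ ≫ _ = _
    rw [← Spec.map_comp, ← Spec.map_comp, ← Spec.map_comp]
    congr 1
    ext c
    show eA.symm (algebraMap P (Localization.Away y) (MvPolynomial.C c)) = algebraMap A _ (algebraMap k A c)
    rw [← MvPolynomial.algebraMap_eq, ← IsScalarTower.algebraMap_apply, AlgEquiv.commutes,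
      IsScalarTower.algebraMap_apply k A (Localization.Away x)]

section invariance

variable {G X : Over (Spec (CommRingCat.of k))}

theorem pullHom_comp {A B C : Over (Spec (CommRingCat.of k))} [PicGrp.Law A.left] [PicGrp.Law B.left]
    [PicGrp.Law C.left] (s : A ⟶ B) (t : B ⟶ C) (h : PicGrp.PullMul t.left) (c : PicLoc.PicSet C.left) :
    PicGrp.pullHom s.left (M2.pullMul _) (PicGrp.pullHom t.left h c) = PicGrp.pullHom (s ≫ t).left (M2.pullMul _) c := by
  obtain ⟨L, hL, rfl⟩ := PicGrp.exists_eq_cls c
  rw [PicGrp.pullHom_cls, PicGrp.pullHom_cls, PicGrp.pullHom_cls]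
  exact Subtype.ext (M2.cl_eq_of_iso ((Scheme.Modules.pullbackComp s.left t.left).app L))

theorem pullHom_id {A : Over (Spec (CommRingCat.of k))} [PicGrp.Law A.left] (s : A ⟶ A) (hs : s = 𝟙 A)
    (c : PicLoc.PicSet A.left) : PicGrp.pullHom s.left (M2.pullMul _) c = c := by
  subst hs
  obtain ⟨L, hL, rfl⟩ := PicGrp.exists_eq_cls c
  rw [PicGrp.pullHom_cls]
  exact Subtype.ext (M2.cl_eq_of_iso ((Scheme.Modules.pullbackId A.left).app L))

theorem pullHom_const {A B : Over (Spec (CommRingCat.of k))} [PicGrp.Law A.left] [PicGrp.Law B.left]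
    (p : 𝟙_ (Over (Spec (CommRingCat.of k))) ⟶ B) (c : PicLoc.PicSet B.left) :
    PicGrp.pullHom (toUnit A ≫ p).left (M2.pullMul _) c = 1 := by
  letI : PicGrp.Law (𝟙_ (Over (Spec (CommRingCat.of k)))).left := M2.law _
  rw [← pullHom_comp (toUnit A) p (M2.pullMul _)]
  have h1 : PicGrp.pullHom p.left (M2.pullMul _) c = 1 := by
    obtain ⟨L, hL, rfl⟩ := PicGrp.exists_eq_cls c
    rw [PicGrp.pullHom_cls, PicGrp.cls_eq_one_iff]
    exact CubeField.nonempty_trivial_field _ (PicLoc.isInvertible_pullback _ hL)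
  rw [h1, map_one]

variable [GrpObj G] [IsAffine G.left] [Smooth G.hom] [ConnectedSpace ↥G.left]
  [IsIntegral X.left] [IsSeparated X.hom] [LocallyOfFiniteType X.hom] [QuasiCompact X.hom]
  [PicGrp.Law G.left] [PicGrp.Law X.left] [PicGrp.Law (G ⊗ X).left]

/-- The pullback of a class along an action differs from its pullback along the projection by a class from the group. -/
theorem exists_pullHom_act_eq (hX : Pi1.IsNormalScheme X.left) (a : AlgGrp.Action G X)
    (hσ : PicGrp.PullMul a.act.left) (h₁ : PicGrp.PullMul (fst G X).left) (h₂ : PicGrp.PullMul (snd G X).left)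
    (c : PicLoc.PicSet X.left) :
    ∃ A, PicGrp.pullHom a.act.left hσ c = PicGrp.pullHom (fst G X).left h₁ A * PicGrp.pullHom (snd G X).left h₂ c := by
  haveI := isIntegral_left G
  haveI : QuasiCompact G.hom := inferInstance
  haveI : IsSeparated G.hom := inferInstance
  have hG : Pi1.IsNormalScheme G.left := fun x =>
    ⟨SmoothReg17.isDomain_stalk G.hom x, SmoothReg17.isIntegrallyClosed_stalk G.hom x⟩
  obtain ⟨U, n, V, e, hU, he⟩ := exists_open_iso G
  obtain ⟨⟨A, B⟩, hAB⟩ := (PicNormal14.bijective_mul (X := G) (Y := X) hG hX U n V e hU he h₁ h₂).2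
    (PicGrp.pullHom a.act.left hσ c)
  refine ⟨A, hAB.symm.trans ?_⟩
  suffices h : B = c by rw [h]
  let s : X ⟶ G ⊗ X := lift (toUnit X ≫ η[G]) (𝟙 X)
  have h := congrArg (PicGrp.pullHom s.left (M2.pullMul _)) hAB
  rw [map_mul, pullHom_comp, pullHom_comp, pullHom_comp, show s ≫ fst G X = toUnit X ≫ η[G] by simp [s],
    pullHom_const, _root_.one_mul, pullHom_id _ (by simp [s]), pullHom_id] at h
  · exact h
  · have e1 : s = (λ_ X).inv ≫ (η[G] ▷ X) := by
      apply CartesianMonoidalCategory.hom_ext <;> simp [s]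
    rw [e1, Category.assoc, a.one_act, Iso.inv_hom_id]

end invariance

end Groth.Agent.RatGrp14
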