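import Groth.Agent.Lib.RatGrp14.Unip
import Groth.Agent.Lib.MuCrit20.Main
import Groth.Prelude.Def_GLin4
import Mathlib.RingTheory.Coalgebra.GroupLike
import Mathlib.LinearAlgebra.FreeModule.PID

/-!
# Connected trigonalisable groups are rational

`isRat_of_triangular`: a closed connected subgroup of the triangular group whose points decompose along a diagonalisable
set of points is, as a variety, the product of a split torus and a connected unipotent group.
-/

set_option autoImplicit false
set_option linter.style.haveILetI false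
set_option backward.isDefEq.respectTransparency.types false

universe u

open TensorProduct WithConv Coalgebra

noncomputable section

namespace Groth.Agent.RatGrp14

variable {k : Type u} [Field k] [IsAlgClosed k] {A : Type u} [CommRing A] [HopfAlgebra k A]

/-- The units with group-like value. -/
def glUnits (k : Type u) [Field k] (A : Type u) [CommRing A] [HopfAlgebra k A] : Subgroup Aˣ where
  carrier := {a | IsGroupLikeElem k (a : A)}
  one_mem' := ⟨Bialgebra.counit_one, Bialgebra.comul_one⟩
  mul_mem' {a b} ha hb := ⟨by simp [Bialgebra.counit_mul, ha.counit_eq_one, hb.counit_eq_one],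
    by rw [Units.val_mul, Bialgebra.comul_mul, ha.comul_eq_tmul_self, hb.comul_eq_tmul_self, Algebra.TensorProduct.tmul_mul_tmul]⟩
  inv_mem' {a} ha := by
    have h1 : Bialgebra.comulAlgHom k A ((a⁻¹ : Aˣ) : A) * ((a : A) ⊗ₜ[k] (a : A)) = 1 := by
      rw [← show Bialgebra.comulAlgHom k A (a : A) = (a : A) ⊗ₜ[k] (a : A) from ha.comul_eq_tmul_self, ← map_mul,
        Units.inv_mul, map_one]
    have h2 : (((a⁻¹ : Aˣ) : A) ⊗ₜ[k] ((a⁻¹ : Aˣ) : A)) * ((a : A) ⊗ₜ[k] (a : A)) = 1 := by
      rw [Algebra.TensorProduct.tmul_mul_tmul, Units.inv_mul]; rfl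
    refine ⟨?_, left_inv_eq_right_inv h1 (by rwa [mul_comm] at h2)⟩
    have h3 : counit (R := k) (((a⁻¹ : Aˣ) : A) * (a : A)) = 1 := by rw [Units.inv_mul, Bialgebra.counit_one]
    rwa [Bialgebra.counit_mul, ha.counit_eq_one, mul_one] at h3

/-- The algebra spanned by a group of units. -/
def unitsAlg (M : Subgroup Aˣ) : Subalgebra k A := Algebra.adjoin k ((fun u : Aˣ => (u : A)) '' (M : Set Aˣ))

omit [IsAlgClosed k] in
theorem mem_unitsAlg {M : Subgroup Aˣ} {u : Aˣ} (hu : u ∈ M) : (u : A) ∈ unitsAlg (k := k) M :=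
  Algebra.subset_adjoin ⟨u, hu, rfl⟩

theorem eq_one_of_pow_eq_one [IsDomain A] {u : Aˣ} (hu : u ∈ glUnits k A) {m : ℕ} (hm : 0 < m) (h : u ^ m = 1) :
    u = 1 := by
  have hint : IsIntegral k (u : A) := IsIntegral.of_pow hm (by rw [← Units.val_pow_eq_pow_val, h, Units.val_one]; exact isIntegral_one)
  obtain ⟨c, hc⟩ := minpoly.mem_range_of_degree_eq_one k (u : A)
    (IsAlgClosed.degree_eq_one_of_irreducible k (minpoly.irreducible hint))
  have hc1 : c = 1 := by
    have := congrArg (counit (R := k)) hc
    rwa [Bialgebra.counit_algebraMap, show counit (R := k) (u : A) = 1 from hu.counit_eq_one] at this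
  exact Units.ext (by rw [← hc, hc1, map_one, Units.val_one])

/-- A finitely generated group of group-like units spans a rational algebra. -/
theorem isRat_unitsAlg [IsDomain A] (M : Subgroup Aˣ) (hM : M ≤ glUnits k A) [Group.FG M] :
    IsRat k (unitsAlg (k := k) M) := by
  classical
  haveI : IsMulTorsionFree M := IsMulTorsionFree.of_not_isOfFinOrder fun x hx hfin => hx (by
    obtain ⟨m, hm, h⟩ := isOfFinOrder_iff_pow_eq_one.1 hfin
    exact Subtype.ext (eq_one_of_pow_eq_one (hM x.2) hm (by simpa using congrArg (Subtype.val) h)))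
  haveI : Module.Finite ℤ (Additive M) := Module.Finite.iff_addGroup_fg.2 inferInstance
  let b := Module.finBasis ℤ (Additive M)
  set d := Module.finrank ℤ (Additive M)
  let R := unitsAlg (k := k) M
  let e : Fin d → R := fun i => ⟨((Additive.toMul (b i) : M) : Aˣ), mem_unitsAlg (Additive.toMul (b i)).2⟩
  let φ : MvPolynomial (Fin d) k →ₐ[k] R := MvPolynomial.aeval e
  have hmono : ∀ m : Fin d →₀ ℕ, (φ (MvPolynomial.monomial m 1) : A) =
      (((Additive.toMul (∑ i, ((m i : ℕ) : ℤ) • b i) : M) : Aˣ) : A) := fun m => by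
    show R.val (φ (MvPolynomial.monomial m 1)) = ((Units.coeHom A).comp M.subtype) (Additive.toMul _)
    rw [MvPolynomial.aeval_monomial, map_one, one_mul, Finsupp.prod_fintype _ _ (fun i => pow_zero (e i)), map_prod,
      toMul_sum, map_prod]
    refine Finset.prod_congr rfl fun i _ => ?_
    rw [map_pow, natCast_zsmul, toMul_nsmul, map_pow]
    rfl
  have hφ : Function.Injective φ := by
    refine (injective_iff_map_eq_zero φ).2 fun p hp => ?_
    have hinj : Function.Injective fun m : Fin d →₀ ℕ => (φ (MvPolynomial.monomial m 1) : A) := fun m m' h => by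
      simp only [hmono] at h
      have h' := congrArg (fun z => b.repr z) (Additive.toMul.injective (Subtype.ext (Units.ext h)))
      simp only [map_sum, map_zsmul, Module.Basis.repr_self] at h'
      refine Finsupp.ext fun i => ?_
      have h'' := DFunLike.congr_fun h' i
      simp [Finsupp.single_apply] at h''
      exact_mod_cast h''
    have hli : LinearIndependent k fun m : Fin d →₀ ℕ => (φ (MvPolynomial.monomial m 1) : A) := by
      have h := (linearIndepOn_isGroupLikeElem (R := k) (A := A)).mono
        (show Set.range (fun m : Fin d →₀ ℕ => (φ (MvPolynomial.monomial m 1) : A)) ⊆ {a | IsGroupLikeElem k a} by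
          rintro _ ⟨m, rfl⟩
          simp only [hmono]
          exact hM (SetLike.coe_mem _))
      exact (linearIndepOn_id_range_iff hinj).1 h
    have hz : ∑ m ∈ p.support, p.coeff m • (φ (MvPolynomial.monomial m 1) : A) = 0 := by
      have h := congrArg (fun z : R => (z : A)) hp
      conv_lhs at h => rw [p.as_sum]
      simp only [map_sum, AddSubmonoidClass.coe_finset_sum, ZeroMemClass.coe_zero] at h
      refine Eq.trans (Finset.sum_congr rfl fun m _ => ?_) h
      rw [show MvPolynomial.monomial m (p.coeff m) = p.coeff m • MvPolynomial.monomial m (1 : k) by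
        rw [MvPolynomial.smul_monomial, smul_eq_mul, mul_one], map_smul]
      rfl
    refine MvPolynomial.ext _ _ fun m => ?_
    rw [MvPolynomial.coeff_zero]
    by_cases hm : m ∈ p.support
    · exact linearIndependent_iff'.1 hli p.support _ hz m hm
    · exact MvPolynomial.notMem_support_iff.1 hm
  have he : IsEpiMap φ := by
    intro C _ _ f g h
    let hom : (R →ₐ[k] C) → (Additive M →+ Additive Cˣ) := fun f =>
      MonoidHom.toAdditive (MonoidHom.toHomUnits
        { toFun := fun u : M => f ⟨((u : Aˣ) : A), mem_unitsAlg u.2⟩, map_one' := map_one f,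
          map_mul' := fun u v => by rw [← map_mul]; rfl })
    have hfg : (hom f).toIntLinearMap = (hom g).toIntLinearMap := b.ext fun i => by
      apply Additive.toMul.injective
      refine Units.ext ?_
      show f (e i) = g (e i)
      rw [← MvPolynomial.aeval_X (R := k) e i]
      exact AlgHom.congr_fun h _
    refine AlgHom.ext fun z => ?_
    obtain ⟨z, hz⟩ := z
    induction hz using Algebra.adjoin_induction with
    | mem x hx =>
      obtain ⟨u, hu, rfl⟩ := hx
      exact congrArg (fun l : Additive M →ₗ[ℤ] Additive Cˣ => Units.val (Additive.toMul (l (Additive.ofMul (⟨u, hu⟩ : M))))) hfg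
    | algebraMap c => exact (f.commutes c).trans (g.commutes c).symm
    | add x y hx hy h1 h2 =>
      rw [show (⟨x + y, _⟩ : R) = ⟨x, hx⟩ + ⟨y, hy⟩ from rfl, map_add, map_add, h1, h2]
    | mul x y hx hy h1 h2 =>
      rw [show (⟨x * y, _⟩ : R) = ⟨x, hx⟩ * ⟨y, hy⟩ from rfl, map_mul, map_mul, h1, h2]
  exact (isRat_polynomialFin d).of_fractionEquiv (fractionEquiv_of_epi φ hφ he).some.symm

/-- Elements killed by a power of `φ - 1`. -/
theorem exists_pow_kill_mul {φ : A →ₐ[k] A} {a b : A} :
    ∀ {m n : ℕ}, ((φ.toLinearMap - 1 : Module.End k A) ^ m) a = 0 → ((φ.toLinearMap - 1 : Module.End k A) ^ n) b = 0 →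
      ((φ.toLinearMap - 1 : Module.End k A) ^ (m + n)) (a * b) = 0 := by
  set D : Module.End k A := φ.toLinearMap - 1 with hD
  suffices H : ∀ (s m n : ℕ) (a b : A), m + n = s → (D ^ m) a = 0 → (D ^ n) b = 0 → (D ^ s) (a * b) = 0 from
    fun {m n} ha hb => H _ m n a b rfl ha hb
  intro s
  induction s with
  | zero =>
    intro m n a b hs ha _
    obtain ⟨rfl, rfl⟩ : m = 0 ∧ n = 0 := ⟨by omega, by omega⟩
    simp only [pow_zero, Module.End.one_apply] at ha ⊢
    rw [ha, zero_mul]
  | succ s ih =>
    intro m n a b hs ha hb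
    rcases m with _ | m
    · simp only [pow_zero, Module.End.one_apply] at ha
      rw [ha, zero_mul, map_zero]
    rcases n with _ | n
    · simp only [pow_zero, Module.End.one_apply] at hb
      rw [hb, mul_zero, map_zero]
    rw [pow_succ, Module.End.mul_apply,
      show D (a * b) = D a * φ b + a * D b by
        simp only [hD, LinearMap.sub_apply, AlgHom.toLinearMap_apply, Module.End.one_apply, map_mul]; ring,
      map_add]
    have hφb : (D ^ (n + 1)) (φ b) = 0 := by
      rw [show φ b = b + D b by simp [hD], map_add, hb, zero_add, ← Module.End.mul_apply, ← pow_succ, pow_succ',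
        Module.End.mul_apply, hb, map_zero]
    rw [ih m (n + 1) (D a) (φ b) (by omega) (by rwa [← Module.End.mul_apply, ← pow_succ]) hφb,
      ih (m + 1) n a (D b) (by omega) ha (by rwa [← Module.End.mul_apply, ← pow_succ]), add_zero]

section triangular

open CoordGrp

variable {n : ℕ} (π : GLn n k →ₐc[k] A)

omit [IsAlgClosed k] in
theorem adjoin_GLn_eq_top :
    Algebra.adjoin k (Set.range (fun ij : Fin n × Fin n => GLn.X ij.1 ij.2) ∪ {(GLn.Dinv : GLn n k)}) = ⊤ := by
  refine top_le_iff.1 fun a _ => ?_
  obtain ⟨b, rfl⟩ := Ideal.Quotient.mk_surjective a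
  let q : MvPolynomial (GLPoly.Idx n) k := b
  show GLn.mk n k (q : GLb n k) ∈ _
  induction q using MvPolynomial.induction_on with
  | C c => exact ((GLn.mk n k).commutes c).symm ▸ Subalgebra.algebraMap_mem _ c
  | add p q hp hq => exact (map_add (GLn.mk n k) _ _).symm ▸ add_mem hp hq
  | mul_X p s hp =>
    refine (map_mul (GLn.mk n k) _ _).symm ▸ ?_
    refine mul_mem hp (Algebra.subset_adjoin ?_)
    rcases s with ⟨i, j⟩ | ⟨⟩
    · exact Or.inl ⟨(i, j), rfl⟩
    · exact Or.inr rfl

omit [IsAlgClosed k] in
theorem comul_entry (i j : Fin n) :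
    comul (R := k) (π (GLn.X i j)) = ∑ l, π (GLn.X i l) ⊗ₜ[k] π (GLn.X l j) := by
  rw [← CoalgHomClass.map_comp_comul_apply π, GLn.comul_X, map_sum]
  rfl

variable (hup : ∀ i j : Fin n, j < i → π (GLn.X i j) = 0)

include hup

omit [IsAlgClosed k] in
theorem isGroupLike_diag (i : Fin n) : IsGroupLikeElem k (π (GLn.X i i)) := by
  refine ⟨?_, ?_⟩
  · rw [CoalgHomClass.counit_comp_apply, GLn.counit_X, if_pos rfl]
  · rw [comul_entry, Finset.sum_eq_single i]
    · intro l _ hl
      rcases lt_or_gt_of_ne hl with h | h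
      · rw [hup i l h, zero_tmul]
      · rw [hup l i h, tmul_zero]
    · simp

omit [IsAlgClosed k] in
theorem det_entries : π GLn.Dinv * ∏ i, π (GLn.X i i) = 1 := by
  have h1 : π (GLn.det : GLn n k) = ∏ i, π (GLn.X i i) := by
    rw [GLn.det_eq, show π (GLn.genMat n k).det = (π : GLn n k →ₐ[k] A) (GLn.genMat n k).det from rfl, AlgHom.map_det]
    refine (Matrix.det_of_upperTriangular fun i j hij => hup i j hij).trans ?_
    rfl
  rw [← h1, ← map_mul, GLn.Dinv_mul_det, map_one]

variable [IsDomain A] [Algebra.FiniteType k A]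

set_option maxHeartbeats 800000 in
/-- Connected triangular groups are rational. -/
theorem isRat_of_triangular (hπ : Function.Surjective π) (TT : Set (WithConv (A →ₐ[k] k)))
    (ρ : Fin n → Fin n) (P P' : Matrix (Fin n) (Fin n) k)
    (hdiag : ∀ t ∈ TT, ∀ i j, t.ofConv (π (GLn.X i j)) = ∑ l, P' i l * t.ofConv (π (GLn.X (ρ l) (ρ l))) * P l j)
    (hTT : (1 : WithConv (A →ₐ[k] k)) ∈ TT)
    (hdec : ∀ z : WithConv (A →ₐ[k] k), ∃ t ∈ TT, ∀ i, z.ofConv (π (GLn.X i i)) = t.ofConv (π (GLn.X i i))) :
    IsRat k A := by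
  classical
  let χ : Fin n → Aˣ := fun i => Units.mkOfMulEqOne (π (GLn.X i i))
    (π GLn.Dinv * ∏ l ∈ Finset.univ.erase i, π (GLn.X l l))
    (by rw [mul_left_comm, Finset.mul_prod_erase Finset.univ (fun l => π (GLn.X l l)) (Finset.mem_univ i), det_entries π hup])
  let M : Subgroup Aˣ := Subgroup.closure (Set.range χ)
  haveI : Group.FG M := Group.closure_finite_fg _
  have hM : M ≤ glUnits k A := (Subgroup.closure_le _).2 (by
    rintro _ ⟨i, rfl⟩; exact isGroupLike_diag π hup i)
  let R := unitsAlg (k := k) M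
  -- the ideal of the diagonalisable points
  let I : Ideal A := ⨅ t ∈ TT, RingHom.ker t.ofConv
  have hI : ∀ a, a ∈ I ↔ ∀ t ∈ TT, t.ofConv a = 0 := fun a => by simp [I, Submodule.mem_iInf]
  let q := Ideal.Quotient.mkₐ k I
  let qR : R →ₐ[k] A ⧸ I := q.comp R.val
  have hqR : Function.Bijective qR := by
    constructor
    · refine (injective_iff_map_eq_zero qR).2 fun x hx => Subtype.ext ?_
      refine GeomIrr.eq_zero_of_forall_algHom (k := k) fun z => ?_
      obtain ⟨t, ht, hzt⟩ := hdec (toConv z)
      have e1 : ∀ u ∈ M, z (u : A) = t.ofConv (u : A) := fun u hu => by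
        have h : Units.map (z : A →* k) u = Units.map (t.ofConv : A →* k) u := by
          induction hu using Subgroup.closure_induction with
          | mem u hu => obtain ⟨i, rfl⟩ := hu; exact Units.ext (hzt i)
          | one => simp
          | mul a b _ _ ha hb => rw [map_mul, map_mul, ha, hb]
          | inv a _ ha => rw [map_inv, map_inv, ha]
        exact congrArg Units.val h
      have e2 : z.comp R.val = t.ofConv.comp R.val := AlgHom.ext fun y => by
        obtain ⟨y, hy⟩ := y
        induction hy using Algebra.adjoin_induction with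
        | mem w hw => obtain ⟨u, hu, rfl⟩ := hw; exact e1 u hu
        | algebraMap c => exact (z.commutes c).trans (t.ofConv.commutes c).symm
        | add a b _ _ ha hb =>
          simp only [AlgHom.comp_apply, Subalgebra.coe_val] at ha hb ⊢
          rw [map_add, map_add, ha, hb]
        | mul a b _ _ ha hb =>
          simp only [AlgHom.comp_apply, Subalgebra.coe_val] at ha hb ⊢
          rw [map_mul, map_mul, ha, hb]
      exact (AlgHom.congr_fun e2 x).trans ((hI _).1 (Ideal.Quotient.eq_zero_iff_mem.1 hx) t ht)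
    · have htop : (π : GLn n k →ₐ[k] A).range.map q ≤ qR.range := by
        rw [← Algebra.map_top, ← adjoin_GLn_eq_top, AlgHom.map_adjoin, AlgHom.map_adjoin, Algebra.adjoin_le_iff]
        rintro _ ⟨_, ⟨z, hz, rfl⟩, rfl⟩
        have hmemχ : ∀ i, (χ i : A) ∈ R := fun i => mem_unitsAlg (Subgroup.subset_closure ⟨i, rfl⟩)
        rcases hz with ⟨⟨i, j⟩, rfl⟩ | rfl
        · refine ⟨∑ l, algebraMap k R (P' i l * P l j) * ⟨_, hmemχ (ρ l)⟩, ?_⟩
          refine Ideal.Quotient.eq.2 ((hI _).2 fun t ht => ?_)
          rw [map_sub, sub_eq_zero, show (π : GLn n k →ₐ[k] A) (GLn.X i j) = π (GLn.X i j) from rfl, hdiag t ht,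
            map_sum, map_sum]
          refine Finset.sum_congr rfl fun l _ => ?_
          show t.ofConv ((algebraMap k A (P' i l * P l j)) * π (GLn.X (ρ l) (ρ l))) = _
          rw [map_mul, AlgHom.commutes]
          simp; ring
        · refine ⟨⟨((∏ i, χ i)⁻¹ : Aˣ), mem_unitsAlg (inv_mem (Subgroup.prod_mem _ fun i _ => Subgroup.subset_closure ⟨i, rfl⟩))⟩, ?_⟩
          refine congrArg q ?_
          refine Units.inv_eq_of_mul_eq_one_right ?_
          rw [Units.coe_prod, mul_comm]
          exact det_entries π hup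
      intro y
      obtain ⟨a, rfl⟩ := Ideal.Quotient.mk_surjective y
      exact htop ⟨a, hπ a, rfl⟩
  let eR : R ≃ₐ[k] A ⧸ I := AlgEquiv.ofBijective qR hqR
  let σ : A →ₐ[k] R := eR.symm.toAlgHom.comp q
  have hσ : ∀ r : R, σ (r : A) = r := fun r => eR.symm_apply_apply r
  have hεI : ∀ a ∈ I, counit (R := k) a = 0 := fun a ha => (hI a).1 ha 1 hTT
  have counit_σ : ∀ a, counit (R := k) (σ a : A) = counit (R := k) a := fun a => by
    have h : q (σ a : A) = q a := eR.apply_symm_apply (q a)
    have := hεI _ (Ideal.Quotient.eq.1 h)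
    rwa [map_sub, sub_eq_zero] at this
  -- the kernel of the characters
  let J : Ideal A := Ideal.span ((fun u : Aˣ => (u : A) - 1) '' (M : Set Aˣ))
  have hJmem : ∀ u ∈ M, (u : A) - 1 ∈ J := fun u hu => Ideal.subset_span ⟨u, hu, rfl⟩
  have happ : ∀ (C : Type u) [CommRing C] [Algebra k C] (f g : WithConv (A →ₐ[k] C)), ∀ u ∈ M,
      (f * g).ofConv (u : A) = f.ofConv (u : A) * g.ofConv (u : A) := fun C _ _ f g u hu => by
    rw [AlgHom.convMul_apply, show comul (R := k) (u : A) = _ from (hM hu).comul_eq_tmul_self]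
    simp
  let K : ∀ (C : Type u) [CommRing C] [Algebra k C], Subgroup (WithConv (A →ₐ[k] C)) := fun C _ _ =>
    { carrier := {g | ∀ u ∈ M, g.ofConv (u : A) = 1}
      one_mem' := fun u hu => by
        rw [AlgHom.convOne_apply, show counit (R := k) (u : A) = 1 from (hM hu).counit_eq_one, map_one]
      mul_mem' := fun {f g} hf hg u hu => by rw [happ C f g u hu, hf u hu, hg u hu, one_mul]
      inv_mem' := fun {f} hf u hu => by
        have h := happ C f⁻¹ f u hu
        rw [inv_mul_cancel, AlgHom.convOne_apply, show counit (R := k) (u : A) = 1 from (hM hu).counit_eq_one,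
          map_one, hf u hu, mul_one] at h
        exact h.symm }
  haveI : J.IsHopfIdeal k := DynLim23.isHopfIdeal_of_subgroups J K fun C _ _ g => by
    rw [DynLim23.forall_span_iff]
    constructor
    · intro h u hu
      have := h _ ⟨u, hu, rfl⟩
      rwa [map_sub, map_one, sub_eq_zero] at this
    · rintro h _ ⟨u, hu, rfl⟩
      rw [map_sub, map_one, sub_eq_zero]
      exact h u hu
  let qU := Ideal.Quotient.mkₐ k J
  haveI : Algebra.FiniteType k (A ⧸ J) := Algebra.FiniteType.of_surjective qU Ideal.Quotient.mk_surjective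
  have hqU : ∀ u ∈ M, qU (u : A) = 1 := fun u hu => by
    rw [← map_one qU]; exact Ideal.Quotient.eq.2 (hJmem u hu)
  -- the projection to the kernel
  let τ : WithConv (A →ₐ[k] A) := toConv (R.val.comp σ)
  let r : WithConv (A →ₐ[k] A) := τ⁻¹ * toConv (AlgHom.id k A)
  have hτ : ∀ u ∈ M, τ.ofConv (u : A) = u := fun u hu =>
    congrArg Subtype.val (hσ ⟨_, mem_unitsAlg hu⟩)
  have hr : ∀ u ∈ M, r.ofConv (u : A) = 1 := fun u hu => by
    have h := happ A τ r u hu
    rw [show τ * r = toConv (AlgHom.id k A) from mul_inv_cancel_left τ _, hτ u hu] at h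
    exact (mul_eq_left₀ u.ne_zero).1 h.symm
  let r' : A ⧸ J →ₐ[k] A := Ideal.Quotient.liftₐ J r.ofConv ((DynLim23.forall_span_iff A r.ofConv _).2 (by
    rintro _ ⟨u, hu, rfl⟩
    rw [map_sub, map_one, hr u hu, sub_self]))
  have hqr : ∀ y, qU (r' y) = y := fun y => by
    obtain ⟨a, rfl⟩ := Ideal.Quotient.mk_surjective y
    have h1 : DynLim23.postHom qU τ = 1 := by
      refine WithConv.ofConv_injective ?_
      have e : qU.comp R.val = (Algebra.ofId k (A ⧸ J)).comp ((Bialgebra.counitAlgHom k A).comp R.val) := AlgHom.ext fun y => by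
        obtain ⟨y, hy⟩ := y
        induction hy using Algebra.adjoin_induction with
        | mem w hw =>
          obtain ⟨u, hu, rfl⟩ := hw
          simp only [AlgHom.comp_apply, Subalgebra.coe_val, Bialgebra.counitAlgHom_apply]
          rw [hqU u hu, show counit (R := k) (u : A) = 1 from (hM hu).counit_eq_one, map_one]
        | algebraMap c => exact (qU.comp R.val).commutes c |>.trans (AlgHom.commutes _ c).symm
        | add a b _ _ ha hb =>
          simp only [AlgHom.comp_apply, Subalgebra.coe_val] at ha hb ⊢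
          rw [map_add, map_add, map_add, ha, hb]
        | mul a b _ _ ha hb =>
          simp only [AlgHom.comp_apply, Subalgebra.coe_val] at ha hb ⊢
          rw [map_mul, map_mul, map_mul, ha, hb]
      refine AlgHom.ext fun a => ?_
      show qU (R.val (σ a)) = algebraMap k (A ⧸ J) (counit (R := k) a)
      rw [← AlgHom.comp_apply qU, e]
      show algebraMap k (A ⧸ J) (counit (R := k) (σ a : A)) = _
      refine congrArg _ ?_
      exact counit_σ a
    have h2 : DynLim23.postHom qU r = toConv qU := by
      rw [map_mul, map_inv, h1, inv_one, one_mul]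
      exact congrArg toConv (AlgHom.comp_id qU)
    exact AlgHom.congr_fun (congrArg WithConv.ofConv h2) a
  haveI : IsDomain (A ⧸ J) := Function.Injective.isDomain r'.toRingHom (Function.LeftInverse.injective hqr)
  -- it is unipotent
  have hUnip : HopfRep.IsUnipotent k (A ⧸ J) := MuCrit20.isUnipotent_of_reduced _ fun g a => by
    have hq1 : ∀ i, qU (π (GLn.X i i)) = 1 := fun i => hqU _ (Subgroup.subset_closure ⟨i, rfl⟩)
    have hD : qU (π GLn.Dinv) = 1 := by
      have h := congrArg qU (det_entries π hup)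
      rwa [map_mul, map_prod, Finset.prod_eq_one (fun i _ => hq1 i), mul_one, map_one] at h
    let φ := MuCrit20.actAlg g
    let D : Module.End k (A ⧸ J) := φ.toLinearMap - 1
    have hDact : D = MuCrit20.T' k (A ⧸ J) (A ⧸ J) g - 1 := by
      refine congrArg (· - 1) (LinearMap.ext fun x => ?_)
      exact MuCrit20.actAlg_apply g x
    rw [← hDact]
    let L : Subalgebra k (A ⧸ J) :=
      { carrier := {x | ∃ m : ℕ, (D ^ m) x = 0}
        mul_mem' := fun {x y} ⟨m, hm⟩ ⟨m', hm'⟩ => ⟨m + m', exists_pow_kill_mul hm hm'⟩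
        add_mem' := fun {x y} ⟨m, hm⟩ ⟨m', hm'⟩ => ⟨m + m', by
          rw [map_add, add_comm m m', pow_add, Module.End.mul_apply, hm, map_zero, zero_add,
            (Commute.pow_pow_self D m' m).eq, Module.End.mul_apply, hm', map_zero]⟩
        algebraMap_mem' := fun c => ⟨1, by simp [D]⟩ }
    suffices h : a ∈ L from h
    have hent : ∀ i j, qU (π (GLn.X i j)) ∈ L := by
      intro i j
      suffices H : ∀ (N : ℕ) (j : Fin n), (j : ℕ) < N → (D ^ N) (qU (π (GLn.X i j))) = 0 from
        ⟨(j : ℕ) + 1, H _ j (Nat.lt_succ_self _)⟩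
      intro N
      induction N with
      | zero => intro j hj; omega
      | succ N ih =>
        intro j hj
        rw [pow_succ, Module.End.mul_apply]
        have hφ : φ (qU (π (GLn.X i j))) = ∑ l, g (qU (π (GLn.X l j))) • qU (π (GLn.X i l)) := by
          rw [show qU (π (GLn.X i j)) = (Bialgebra.Quotient.mkBialgHom (R := k) J).comp π (GLn.X i j) from rfl]
          show Algebra.TensorProduct.rid k k (A ⧸ J) (Algebra.TensorProduct.map (AlgHom.id k (A ⧸ J)) g
            (comul (R := k) _)) = _
          rw [comul_entry, map_sum, map_sum]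
          refine Finset.sum_congr rfl fun l _ => ?_
          simp
          rfl
        have hDval : D (qU (π (GLn.X i j))) =
            ∑ l ∈ Finset.univ.filter (fun l => l < j), g (qU (π (GLn.X l j))) • qU (π (GLn.X i l)) := by
          simp only [D, LinearMap.sub_apply, AlgHom.toLinearMap_apply, Module.End.one_apply]
          rw [hφ, ← Finset.sum_filter_add_sum_filter_not Finset.univ (fun l => l < j), add_sub_assoc]
          refine add_eq_left.2 (sub_eq_zero.2 ?_)
          rw [Finset.sum_eq_single j]
          · rw [hq1, map_one, one_smul]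
          · intro l hl hlj
            rw [hup l j (lt_of_le_of_ne (not_lt.1 (Finset.mem_filter.1 hl).2) (Ne.symm hlj)), map_zero, map_zero, zero_smul]
          · simp
        rw [hDval, map_sum]
        exact Finset.sum_eq_zero fun l hl => by
          rw [map_smul, ih l (by have := (Finset.mem_filter.1 hl).2; omega), smul_zero]
    obtain ⟨x, rfl⟩ := Ideal.Quotient.mk_surjective a
    obtain ⟨w, rfl⟩ := hπ x
    have hle : Algebra.adjoin k (Set.range (fun ij : Fin n × Fin n => GLn.X ij.1 ij.2) ∪ {(GLn.Dinv : GLn n k)}) ≤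
        L.comap (qU.comp (π : GLn n k →ₐ[k] A)) := Algebra.adjoin_le (by
      rintro _ (⟨⟨i, j⟩, rfl⟩ | rfl)
      · exact hent i j
      · show qU (π GLn.Dinv) ∈ L
        rw [hD]; exact one_mem L)
    exact hle (adjoin_GLn_eq_top.ge (show w ∈ ⊤ from trivial))
  -- the product decomposition
  haveI := GeomIrr.isDomain_tensor (k := k) R (A ⧸ J)
  let μ : A →ₐ[k] R ⊗[k] (A ⧸ J) := (Algebra.TensorProduct.map σ qU).comp (Bialgebra.comulAlgHom k A)
  let ν : R ⊗[k] (A ⧸ J) →ₐ[k] A := Algebra.TensorProduct.lift R.val r' fun _ _ => Commute.all _ _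
  have hνμ : ∀ a, ν (μ a) = a := fun a => by
    have h := AlgHom.congr_fun (congrArg WithConv.ofConv (show τ * r = toConv (AlgHom.id k A) from mul_inv_cancel_left τ _)) a
    rw [AlgHom.convMul_apply] at h
    refine Eq.trans ?_ h
    show ν (Algebra.TensorProduct.map σ qU (comul (R := k) a)) = _
    induction comul (R := k) a with
    | zero => simp
    | add a b ha hb => simp only [map_add, ha, hb]
    | tmul a b =>
      rw [Algebra.TensorProduct.lift_tmul, Algebra.TensorProduct.map_tmul]
      exact Algebra.TensorProduct.lift_tmul _ _ _ _ _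
  have hμe : IsEpiMap μ := by
    intro C _ _ f g hfg
    let u : (R ⊗[k] (A ⧸ J) →ₐ[k] C) → WithConv (A →ₐ[k] C) := fun f =>
      toConv ((f.comp Algebra.TensorProduct.includeLeft).comp σ)
    let v : (R ⊗[k] (A ⧸ J) →ₐ[k] C) → WithConv (A →ₐ[k] C) := fun f =>
      toConv ((f.comp Algebra.TensorProduct.includeRight).comp qU)
    have hprod : ∀ f, toConv (f.comp μ) = u f * v f := fun f => by
      refine WithConv.ofConv_injective (AlgHom.ext fun a => ?_)
      rw [AlgHom.convMul_apply]
      show f (Algebra.TensorProduct.map σ qU (comul (R := k) a)) = _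
      induction comul (R := k) a with
      | zero => simp
      | add a b ha hb => simp only [map_add, ha, hb]
      | tmul a b =>
        rw [Algebra.TensorProduct.map_tmul, show σ a ⊗ₜ[k] qU b = (σ a ⊗ₜ[k] (1 : A ⧸ J)) * ((1 : R) ⊗ₜ[k] qU b) by
          rw [Algebra.TensorProduct.tmul_mul_tmul, mul_one, one_mul], map_mul]
        simp [u, v]
    have he : u f * v f = u g * v g := by rw [← hprod, ← hprod, hfg]
    have key : ∀ (f : R ⊗[k] (A ⧸ J) →ₐ[k] C), ∀ w (hw : w ∈ M), (u f * v f).ofConv (w : A) =
        f ((⟨_, mem_unitsAlg hw⟩ : R) ⊗ₜ[k] 1) := fun f w hw => by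
      rw [happ C _ _ w hw]
      show f (σ (w : A) ⊗ₜ[k] 1) * f (1 ⊗ₜ[k] qU (w : A)) = _
      rw [hqU w hw, show σ (w : A) = (⟨_, mem_unitsAlg hw⟩ : R) from hσ ⟨_, mem_unitsAlg hw⟩,
        ← Algebra.TensorProduct.one_def, map_one, mul_one]
    have hl : f.comp Algebra.TensorProduct.includeLeft = g.comp Algebra.TensorProduct.includeLeft := AlgHom.ext fun y => by
      obtain ⟨y, hy⟩ := y
      induction hy using Algebra.adjoin_induction with
      | mem w hw =>
        obtain ⟨w, hw, rfl⟩ := hw
        exact (key f w hw).symm.trans ((congrArg (fun z : WithConv (A →ₐ[k] C) => z.ofConv (w : A)) he).trans (key g w hw))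
      | algebraMap c =>
        exact (AlgHom.commutes (f.comp (Algebra.TensorProduct.includeLeft : R →ₐ[k] _)) c).trans
          (AlgHom.commutes (g.comp (Algebra.TensorProduct.includeLeft : R →ₐ[k] _)) c).symm
      | add a b ha hb h1 h2 =>
        rw [show (⟨a + b, _⟩ : R) = ⟨a, ha⟩ + ⟨b, hb⟩ from rfl, map_add, map_add, h1, h2]
      | mul a b ha hb h1 h2 =>
        rw [show (⟨a * b, _⟩ : R) = ⟨a, ha⟩ * ⟨b, hb⟩ from rfl, map_mul, map_mul, h1, h2]
    have hu : u f = u g := by simp only [u, hl]
    have hv : v f = v g := mul_left_cancel (a := u g) (by rw [← he, hu])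
    refine Algebra.TensorProduct.ext hl (AlgHom.ext fun z => ?_)
    obtain ⟨a, rfl⟩ := Ideal.Quotient.mk_surjective z
    exact AlgHom.congr_fun (congrArg WithConv.ofConv hv) a
  exact ((isRat_unitsAlg M hM).tensor (isRat_of_isUnipotent _ hUnip)).of_epi μ
    (Function.LeftInverse.injective hνμ) hμe

end triangular

end Groth.Agent.RatGrp14
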