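import Groth.Agent.Lib.RatGrp14.Decomp
import Groth.Agent.Lib.RatGrp14.Tri
import Groth.Agent.Lib.TorPts21.Cartan
import Groth.Agent.Lib.TorPts21.CentralTorus
import Groth.Agent.Lib.TorPts21.Upper
import Groth.Agent.Lib.TorPts21.MaxExist
import Groth.Agent.Lib.TorPts21.Split
import Groth.Agent.Lib.MTRigid29.Model

/-!
# Groups in which every one-parameter subgroup is central
-/

set_option autoImplicit false
set_option linter.style.haveILetI false
set_option backward.isDefEq.respectTransparency false
set_option backward.isDefEq.respectTransparency.types false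

universe u

open CategoryTheory MonoidalCategory CartesianMonoidalCategory MonObj AlgebraicGeometry Opposite
open LaurentPolynomial
open scoped TensorProduct
open WithConv Groth.Agent.DiagGL

noncomputable section

namespace Groth.Agent.RatGrp14

variable {k : Type u} [Field k]

/-- The two structure points of a tensor square multiply to the comultiplication. -/
theorem inl_mul_inr {A : Type u} [CommRing A] [Bialgebra k A] :
    (toConv (Algebra.TensorProduct.includeLeft : A →ₐ[k] A ⊗[k] A) *
      toConv (Algebra.TensorProduct.includeRight : A →ₐ[k] A ⊗[k] A)) = toConv (Bialgebra.comulAlgHom k A) := by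
  refine WithConv.ofConv_injective (AlgHom.ext fun a => ?_)
  rw [AlgHom.convMul_apply, ofConv_toConv, ofConv_toConv, ofConv_toConv, Bialgebra.comulAlgHom_apply]
  induction CoalgebraStruct.comul (R := k) a with
  | zero => simp
  | add a b ha hb => simp only [map_add, ha, hb]
  | tmul a b => simp [Algebra.TensorProduct.tmul_mul_tmul]

/-- An algebra map which respects the multiplication of points is a map of bialgebras. -/
theorem exists_bialg {A B : Type u} [CommRing A] [CommRing B] [Bialgebra k A] [Bialgebra k B] (F : B →ₐ[k] A)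
    (hmul : toConv ((Algebra.TensorProduct.includeLeft : A →ₐ[k] A ⊗[k] A).comp F) *
      toConv ((Algebra.TensorProduct.includeRight : A →ₐ[k] A ⊗[k] A).comp F) =
      toConv ((Bialgebra.comulAlgHom k A).comp F))
    (hone : toConv ((Bialgebra.counitAlgHom k A).comp F) = 1) : ∃ G : B →ₐc[k] A, ∀ b, G b = F b := by
  refine ⟨BialgHom.ofAlgHom F ?_ ?_, fun b => rfl⟩
  · refine AlgHom.ext fun b => ?_
    exact AlgHom.congr_fun (congrArg WithConv.ofConv hone) b
  · refine AlgHom.ext fun b => ?_
    have h := AlgHom.congr_fun (congrArg WithConv.ofConv hmul) b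
    rw [AlgHom.convMul_apply] at h
    refine Eq.trans ?_ h
    show Algebra.TensorProduct.map F F (CoalgebraStruct.comul (R := k) b) = _
    induction CoalgebraStruct.comul (R := k) b with
    | zero => simp
    | add a b ha hb => simp only [map_add, ha, hb]
    | tmul a b => simp [Algebra.TensorProduct.tmul_mul_tmul]

section glue

variable {A : Type u} [CommRing A] [HopfAlgebra k A]

/-- Points of the spectrum as algebra maps. -/
def pts (A : Type u) [CommRing A] [HopfAlgebra k A] (C : Type u) [CommRing C] [Algebra k C] :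
    WithConv (A →ₐ[k] C) ≃* (CoactBr.sp k C ⟶ CoactBr.sp k A) := MTRigid29.ptEquiv A C

theorem pts_apply {C : Type u} [CommRing C] [Algebra k C] (f : WithConv (A →ₐ[k] C)) :
    pts A C f = CoactBr.pt f.ofConv := rfl

theorem pts_comp {C C' : Type u} [CommRing C] [Algebra k C] [CommRing C'] [Algebra k C'] (φ : C →ₐ[k] C')
    (f : WithConv (A →ₐ[k] C)) : pts A C' (DynLim23.postHom φ f) = CoactBr.pt φ ≫ pts A C f :=
  CoactBr.pt_comp f.ofConv φ

/-- Global sections of a point in coordinates. -/
theorem appTop_pt {C C' : Type u} [CommRing C] [Algebra k C] [CommRing C'] [Algebra k C'] (φ : C →ₐ[k] C') (c : C) :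
    (CoactBr.pt φ).left.appTop ((Scheme.ΓSpecIso (CommRingCat.of C)).inv c) =
      (Scheme.ΓSpecIso (CommRingCat.of C')).inv (φ c) :=
  (ConcreteCategory.congr_hom (Scheme.ΓSpecIso_inv_naturality (CommRingCat.ofHom φ.toRingHom)) c).symm

end glue

section cochar

variable {d : ℕ}

/-- The monomial of a pairing. -/
def mono (k : Type u) [Field k] (b : Fin d → ℤ) : Multiplicative (Fin d → ℤ) →* k[T;T⁻¹] where
  toFun a := AddMonoidAlgebra.single (∑ i, b i * a.toAdd i) 1
  map_one' := by
    rw [show (∑ i, b i * (1 : Multiplicative (Fin d → ℤ)).toAdd i) = 0 from Finset.sum_eq_zero fun i _ => mul_zero (b i)]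
    rfl
  map_mul' a a' := by
    rw [AddMonoidAlgebra.single_mul_single, _root_.one_mul]
    congr 1
    rw [← Finset.sum_add_distrib]
    exact Finset.sum_congr rfl fun i _ => mul_add (b i) _ _

variable {A : Type u} [CommRing A] [HopfAlgebra k A] {S : Over (Spec (CommRingCat.of k))} [GrpObj S]
  (C : Chars (Fin d → ℤ) S) (b : Fin d → ℤ)

/-- The one-parameter subgroup of a split torus attached to a cocharacter. -/
def cochPt : CoactBr.sp k k[T;T⁻¹] ⟶ S :=
  (C.surj (T := CoactBr.sp k k[T;T⁻¹])
    ((Scheme.ΓSpecIso (CommRingCat.of k[T;T⁻¹])).inv.hom.toMonoidHom.comp (mono k b))).choose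

theorem ch_cochPt {R : Type u} [CommRing R] [Algebra k R] (φ : k[T;T⁻¹] →ₐ[k] R) (a : Multiplicative (Fin d → ℤ)) :
    C.ch (CoactBr.pt φ ≫ cochPt C b) a = (Scheme.ΓSpecIso (CommRingCat.of R)).inv (φ (mono k b a)) := by
  rw [C.nat, cochPt, (C.surj (T := CoactBr.sp k k[T;T⁻¹])
    ((Scheme.ΓSpecIso (CommRingCat.of k[T;T⁻¹])).inv.hom.toMonoidHom.comp (mono k b))).choose_spec]
  exact appTop_pt φ _

/-- Cocharacters give maps of bialgebras. -/
theorem exists_lam (i : S ⟶ CoactBr.sp k A) [IsMonHom i] :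
    ∃ lam : A →ₐc[k] k[T;T⁻¹], pts A k[T;T⁻¹] (toConv (lam : A →ₐ[k] k[T;T⁻¹])) = cochPt C b ≫ i := by
  obtain ⟨F, hF⟩ := (pts A k[T;T⁻¹]).surjective (cochPt C b ≫ i)
  have key : ∀ {R : Type u} [CommRing R] [Algebra k R] (φ : k[T;T⁻¹] →ₐ[k] R),
      pts A R (toConv (φ.comp F.ofConv)) = (CoactBr.pt φ ≫ cochPt C b) ≫ i := fun φ => by
    rw [Category.assoc, ← hF, ← pts_comp]
    rfl
  obtain ⟨lam, hlam⟩ := exists_bialg F.ofConv ((pts A _).injective (by
    rw [map_mul, key, key, key, ← MonObj.mul_comp]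
    congr 1
    refine C.inj fun a => ?_
    rw [C.mul, ch_cochPt, ch_cochPt, ch_cochPt]
    refine (map_mul (Scheme.ΓSpecIso (CommRingCat.of (k[T;T⁻¹] ⊗[k] k[T;T⁻¹]))).inv.hom _ _).symm.trans ?_
    congr 1
    show _ = CoalgebraStruct.comul (R := k) (AddMonoidAlgebra.single (∑ i, b i * a.toAdd i) (1 : k))
    rw [AddMonoidAlgebra.comul_single, CommSemiring.comul_apply]
    simp [mono, Algebra.TensorProduct.tmul_mul_tmul])) ((pts A k).injective (by
    rw [key, map_one]
    refine Eq.trans ?_ (MonObj.one_comp i)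
    congr 1
    refine C.inj fun a => ?_
    rw [ch_cochPt, C.one]
    refine Eq.trans (congrArg _ ?_) (map_one _)
    show CoalgebraStruct.counit (R := k) (AddMonoidAlgebra.single (∑ i, b i * a.toAdd i) (1 : k)) = 1
    rw [AddMonoidAlgebra.counit_single]
    simp))
  refine ⟨lam, ?_⟩
  rw [← hF]
  exact congrArg (pts A k[T;T⁻¹]) (WithConv.ofConv_injective (AlgHom.ext hlam))

/-- Evaluation of the parameter at a unit. -/
def evAt (c : kˣ) : k[T;T⁻¹] →ₐ[k] k :=
  AddMonoidAlgebra.lift k k ℤ ((Units.coeHom k).comp (zpowersHom kˣ c))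

theorem evAt_mono (c : kˣ) (a : Multiplicative (Fin d → ℤ)) :
    evAt c (mono k b a) = ((c ^ (∑ i, b i * a.toAdd i) : kˣ) : k) := by
  show AddMonoidAlgebra.lift k k ℤ _ (AddMonoidAlgebra.single _ (1 : k)) = _
  rw [AddMonoidAlgebra.lift_single, one_smul]
  rfl

end cochar

variable [IsAlgClosed k] {A : Type u} [CommRing A] [HopfAlgebra k A]

omit [IsAlgClosed k] in
/-- A one-parameter subgroup of trivial weights commutes with the points. -/
theorem commute_of_gr (lam : A →ₐc[k] k[T;T⁻¹]) (h : ∀ a : A, ∀ n : ℤ, n ≠ 0 → gr lam n a = 0) (c : kˣ)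
    (g : WithConv (A →ₐ[k] k)) :
    g * toConv ((evAt c).comp (lam : A →ₐ[k] k[T;T⁻¹])) = toConv ((evAt c).comp (lam : A →ₐ[k] k[T;T⁻¹])) * g := by
  have horb : Dyn.conjOrbit k A lam k g.ofConv = (DynLim23.incl k).comp g.ofConv := AlgHom.ext fun a => by
    refine AddMonoidAlgebra.coeff_injective (Finsupp.ext fun n => ?_)
    rw [DynLim23.coeff_conjOrbit]
    show g.ofConv (gr lam n a) = (AddMonoidAlgebra.single (0 : ℤ) (g.ofConv a)).coeff n
    rw [AddMonoidAlgebra.coeff_single]
    rcases eq_or_ne n 0 with rfl | hn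
    · rw [Finsupp.single_eq_same]
      congr 1
      conv_rhs => rw [← sum_gr lam a]
      symm
      refine Finset.sum_eq_single 0 (fun m _ hm => h a m hm) fun h0 => ?_
      exact Finsupp.notMem_support_iff.1 h0
    · rw [h a n hn, map_zero, Finsupp.single_eq_of_ne hn]
  have e := congrArg toConv horb
  rw [DynLim23.conjOrbit_eq, mul_inv_eq_iff_eq_mul] at e
  have e1 := congrArg (DynLim23.postHom (evAt c)) e
  rw [map_mul, map_mul] at e1
  have hg : DynLim23.postHom (evAt c) (toConv ((DynLim23.incl k).comp g.ofConv)) = g := by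
    refine WithConv.ofConv_injective (AlgHom.ext fun a => ?_)
    exact (evAt c).commutes (g.ofConv a)
  have hl : DynLim23.postHom (evAt c) (toConv (Dyn.lamR k A lam k)) =
      toConv ((evAt c).comp (lam : A →ₐ[k] k[T;T⁻¹])) := by
    refine congrArg toConv (AlgHom.ext fun a => congrArg (evAt c) ?_)
    show AddMonoidAlgebra.mapAlgHom ℤ (Algebra.ofId k k) (lam a) = lam a
    generalize lam a = z
    induction z using LaurentPolynomial.induction_on' with
    | add a b ha hb => simp only [map_add, ha, hb]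
    | C_mul_T m r => rw [← LaurentPolynomial.single_eq_C_mul_T, DynLim23.mapAlg_single]; rfl
  rw [hg, hl] at e1
  exact e1.symm

variable [IsDomain A] [Algebra.FiniteType k A]

open TorPts21 MatGrp21 in
set_option maxHeartbeats 1000000 in
/-- A connected group in which every one-parameter subgroup is central is rational. -/
theorem isRat_of_forall_central
    (h : ∀ (lam : A →ₐc[k] k[T;T⁻¹]) (a : A) (n : ℤ), n ≠ 0 → gr lam n a = 0) : IsRat k A := by
  let G : Over (Spec (CommRingCat.of k)) := CoactBr.sp k A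
  haveI : IsAffine G.left := inferInstanceAs (IsAffine (Spec (CommRingCat.of A)))
  haveI : IrreducibleSpace G.left := inferInstanceAs (IrreducibleSpace (PrimeSpectrum A))
  haveI : ConnectedSpace G.left := inferInstance
  haveI : LocallyOfFiniteType G.hom :=
    (HasRingHomProperty.Spec_iff (P := @LocallyOfFiniteType) (φ := CommRingCat.ofHom (algebraMap k A))).2
      (RingHom.finiteType_algebraMap.2 inferInstance)
  haveI : Smooth G.hom :=
    (HasRingHomProperty.Spec_iff (P := @Smooth) (φ := CommRingCat.ofHom (algebraMap k A))).2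
      (RingHom.smooth_algebraMap.2 (smooth_of_isReduced A))
  obtain ⟨T₀, _, iT, hT⟩ := exists_maxTorus G
  haveI := hT.1
  obtain ⟨d, ⟨C⟩⟩ := exists_chars hT.2.2.1
  -- the torus is central
  have hcomm : ∀ (g : VecGrp.pt k k ⟶ G) (t : VecGrp.pt k k ⟶ T₀), g * (t ≫ iT) = (t ≫ iT) * g := by
    intro g t
    obtain ⟨z, rfl⟩ := (pts A k).surjective g
    let e : Γ((CoactBr.sp k k).left, ⊤) ≃+* k := (Scheme.ΓSpecIso (CommRingCat.of k)).commRingCatIsoToRingEquiv
    let χ : Multiplicative (Fin d → ℤ) →* kˣ := MonoidHom.toHomUnits ((e : Γ((CoactBr.sp k k).left, ⊤) →* k).comp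
      (C.ch (T := CoactBr.sp k k) t))
    let bi : Fin d → (Fin d → ℤ) := fun i => Pi.single i 1
    let x : Fin d → (CoactBr.sp k k ⟶ T₀) := fun i =>
      CoactBr.pt (evAt (χ (Multiplicative.ofAdd (bi i)))) ≫ cochPt C (bi i)
    have hx : ∀ i, Commute (pts A k z) (x i ≫ iT) := fun i => by
      obtain ⟨lam, hlam⟩ := exists_lam C (bi i) iT
      have h1 := congrArg (pts A k) (commute_of_gr lam (h lam) (χ (Multiplicative.ofAdd (bi i))) z)
      rw [map_mul, map_mul, show pts A k (toConv ((evAt (χ (Multiplicative.ofAdd (bi i)))).comp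
        (lam : A →ₐ[k] k[T;T⁻¹]))) = x i ≫ iT from by
        rw [Category.assoc, ← hlam, ← pts_comp]; rfl] at h1
      exact h1
    have hprod : t = (List.ofFn x).prod := by
      refine C.inj (T := CoactBr.sp k k) fun a => ?_
      have hl : ∀ (l : List (CoactBr.sp k k ⟶ T₀)), C.ch l.prod a = (l.map fun y => C.ch y a).prod := by
        intro l
        induction l with
        | nil => exact C.one _ a
        | cons y l ih => rw [List.prod_cons, C.mul, ih, List.map_cons, List.prod_cons]
      refine Eq.trans ?_ (hl _).symm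
      rw [List.map_ofFn, List.prod_ofFn]
      apply e.injective
      rw [map_prod]
      have hχ : ∀ v : Fin d → ℤ, χ (Multiplicative.ofAdd v) = ∏ i, χ (Multiplicative.ofAdd (bi i)) ^ v i := fun v => by
        conv_lhs => rw [show v = ∑ i, v i • bi i from by
          funext j; simp [bi, Pi.single_apply]]
        rw [ofAdd_sum, map_prod]
        refine Finset.prod_congr rfl fun i _ => ?_
        rw [ofAdd_zsmul, map_zpow]
      have h1 := congrArg Units.val (hχ a.toAdd)
      rw [Units.coe_prod] at h1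
      refine Eq.trans (show _ = (χ a : k) from rfl) (h1.trans (Finset.prod_congr rfl fun i _ => ?_))
      simp only [Function.comp_apply, x]
      rw [ch_cochPt, evAt_mono]
      refine Eq.trans ?_ (e.apply_symm_apply _).symm
      simp [bi, Pi.single_apply]
    rw [hprod]
    have hl2 : ∀ (l : List (CoactBr.sp k k ⟶ T₀)), (∀ y ∈ l, Commute (pts A k z) (y ≫ iT)) →
        Commute (pts A k z) (l.prod ≫ iT) := by
      intro l hl
      induction l with
      | nil => rw [List.prod_nil, MonObj.one_comp]; exact Commute.one_right _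
      | cons y l ih =>
        rw [List.prod_cons, MonObj.mul_comp]
        exact (hl y (List.mem_cons_self ..)).mul_right (ih fun w hw => hl w (List.mem_cons_of_mem _ hw))
    exact hl2 _ fun y hy => by
      obtain ⟨i, rfl⟩ := List.mem_ofFn.1 hy
      exact hx i
  have hsol : Red.IsSolvableGrp G :=
    isSolvableGrp_of_central_maxTorus hT fun x y => comm_of_points hT.2.2.1 hcomm x y
  haveI : IsClosedImmersion (𝟙 G : G ⟶ G).left := inferInstanceAs (IsClosedImmersion (𝟙 G.left))
  obtain ⟨n, r, hr, hrc, hu⟩ := exists_upper_embedding (𝟙 G) hsol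
  haveI := hr
  haveI := hrc
  obtain ⟨D⟩ := nonempty_decomp (M := (mtx r).range) (by
      rintro _ ⟨y, rfl⟩
      exact hu ⟨y, by rw [mtx_comp, Category.comp_id]⟩)
    (isClosed_range_mtx r) (isPreirreducible_range_mtx r)
  -- the coordinates
  obtain ⟨F, hF⟩ := (pts (CoordGrp.GLn n k) A).surjective r
  have key : ∀ {R : Type u} [CommRing R] [Algebra k R] (φ : A →ₐ[k] R),
      pts (CoordGrp.GLn n k) R (toConv (φ.comp F.ofConv)) = pts A R (toConv φ) ≫ r := fun φ => by
    rw [← hF]
    exact pts_comp φ F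
  obtain ⟨π, hπ⟩ := exists_bialg F.ofConv ((pts (CoordGrp.GLn n k) _).injective (by
    rw [map_mul, key, key, key, ← MonObj.mul_comp, ← map_mul, inl_mul_inr])) ((pts (CoordGrp.GLn n k) k).injective (by
    rw [key, map_one, show toConv (Bialgebra.counitAlgHom k A) = (1 : WithConv (A →ₐ[k] k)) from
      WithConv.ofConv_injective (AlgHom.ext fun a => by simp [AlgHom.convOne_apply]), map_one, MonObj.one_comp]))
  have hsurj : Function.Surjective π := by
    intro a
    obtain ⟨w, hw⟩ := exists_eq_appTop r ((Scheme.ΓSpecIso (CommRingCat.of A)).inv a)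
    refine ⟨w, (hπ w).trans ?_⟩
    have h2 : (Scheme.ΓSpecIso (CommRingCat.of A)).inv (F.ofConv w) = (Scheme.ΓSpecIso (CommRingCat.of A)).inv a := by
      rw [← appTop_pt, ← pts_apply, hF]
      exact hw
    exact (ConcreteCategory.bijective_of_isIso (Scheme.ΓSpecIso (CommRingCat.of A)).inv).1 h2
  have hmat : ∀ (z : WithConv (A →ₐ[k] k)) (i j : Fin n),
      (mtx r (pts A k z) : Matrix (Fin n) (Fin n) k) i j = z.ofConv (π (CoordGrp.GLn.X i j)) := fun z i j => by
    have h1 : pts A k z ≫ r = CoactBr.pt (z.ofConv.comp F.ofConv) := (key z.ofConv).symm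
    rw [mtx_apply, coe_mtxFn, mtxMat, h1, hπ]
    show (Scheme.ΓSpecIso (CommRingCat.of k)).hom (DiagGL.ev (CoactBr.pt (z.ofConv.comp F.ofConv)) (CoordGrp.GLn.X i j)) = _
    rw [DiagGL.ev_pt]
    exact Iso.inv_hom_id_apply (Scheme.ΓSpecIso (CommRingCat.of k)) _
  have hup : ∀ i j : Fin n, j < i → π (CoordGrp.GLn.X i j) = 0 := fun i j hij =>
    GeomIrr.eq_zero_of_forall_algHom (k := k) fun z => by
      rw [← ofConv_toConv z, ← hmat]
      have := hu ⟨pts A k (toConv z), by rw [mtx_comp, Category.comp_id]⟩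
      exact this i j (by simpa using hij)
  refine isRat_of_triangular π hup hsurj {z | mtx r (pts A k z) ∈ D.T} D.rho (D.P : Matrix (Fin n) (Fin n) k)
    ((D.P⁻¹ : GL (Fin n) k) : Matrix (Fin n) (Fin n) k) (fun t ht i j => ?_) (by
      show mtx r (pts A k 1) ∈ D.T
      rw [map_one, map_one]; exact D.T.one_mem) fun z => ?_
  · have hd := D.diag _ ht
    have e : (mtx r (pts A k t) : Matrix (Fin n) (Fin n) k) = ((D.P⁻¹ : GL (Fin n) k) : Matrix (Fin n) (Fin n) k) *
        Matrix.diagonal (fun l => (mtx r (pts A k t) : Matrix (Fin n) (Fin n) k) (D.rho l) (D.rho l)) *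
        (D.P : Matrix (Fin n) (Fin n) k) := by
      rw [← hd, ← Units.val_mul, ← Units.val_mul]
      exact congrArg Units.val (by group)
    simp only [← hmat]
    conv_lhs => rw [e, Matrix.mul_apply]
    simp only [Matrix.mul_diagonal]
  · obtain ⟨t, ht, hlay⟩ := D.exists_mem _ ⟨pts A k z, rfl⟩
    obtain ⟨y, hy⟩ := D.le ht
    obtain ⟨t', rfl⟩ := (pts A k).surjective y
    refine ⟨t', by show mtx r _ ∈ D.T; rw [hy]; exact ht, fun i => ?_⟩
    rw [← hmat, ← hmat, hy]
    set m := mtx r (pts A k z)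
    have e : (m : Matrix (Fin n) (Fin n) k) = (t : Matrix (Fin n) (Fin n) k) * ((t⁻¹ * m : GL (Fin n) k) : Matrix (Fin n) (Fin n) k) := by
      rw [← Units.val_mul, mul_inv_cancel_left]
    have htu : (t : GL (Fin n) k) ∈ (upper : Subgroup (GL (Fin n) k)) := by
      rw [← hy]; exact hu ⟨pts A k t', by rw [mtx_comp, Category.comp_id]⟩
    rw [e, Matrix.mul_apply, Finset.sum_eq_single i]
    · have := hlay.2 i i (by omega)
      rw [Matrix.sub_apply, Matrix.one_apply_eq, sub_eq_zero] at this
      rw [this, _root_.mul_one]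
    · intro l _ hl
      rcases lt_or_gt_of_ne hl with h' | h'
      · rw [htu i l (by simpa using h'), zero_mul]
      · rw [hlay.1 l i (by simpa using h'), mul_zero]
    · simp

/-- Connected affine groups are rational. -/
theorem isRat_of_isDomain : ∀ (A : Type u) [CommRing A] [HopfAlgebra k A] [IsDomain A] [Algebra.FiniteType k A],
    IsRat k A := by
  suffices H : ∀ (N : ℕ) (A : Type u) [CommRing A] [HopfAlgebra k A] [IsDomain A] [Algebra.FiniteType k A],
      VarDim.tdeg k A = N → IsRat k A from fun A _ _ _ _ => H _ A rfl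
  intro N
  induction N using Nat.strong_induction_on with
  | _ N ih =>
    intro A _ _ _ _ hN
    by_cases hc : ∀ (lam : A →ₐc[k] k[T;T⁻¹]) (a : A) (n : ℤ), n ≠ 0 → gr lam n a = 0
    · exact isRat_of_forall_central hc
    push Not at hc
    obtain ⟨lam, a, n, hn, hne⟩ := hc
    obtain ⟨lam', hlam'⟩ : ∃ lam' : A →ₐc[k] k[T;T⁻¹], ∃ a, ∃ m : ℤ, m < 0 ∧ gr lam' m a ≠ 0 := by
      rcases lt_or_gt_of_ne hn with h | h
      · exact ⟨lam, a, n, h, hne⟩
      · exact ⟨lamNeg lam, a, -n, by omega, by rwa [gr_lamNeg, neg_neg]⟩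
    obtain ⟨P₀, _, _, _, _, hlt, himp⟩ := exists_step lam' hlam'
    exact himp (ih _ (hN ▸ hlt) P₀ rfl)

end Groth.Agent.RatGrp14
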