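import Groth.Agent.Lib.RatGrp14.Slice
import Groth.Agent.Lib.UnipExt20.Basic
import Groth.Agent.Lib.Unip23.Points
import Mathlib.GroupTheory.Nilpotent
import Mathlib.RingTheory.Ideal.Height
import Mathlib.RingTheory.Ideal.KrullsHeightTheorem

/-!
# The last term of the lower central series of a connected unipotent group

`exists_central`: a nontrivial connected unipotent group has a nontrivial connected central closed subgroup.
-/

set_option autoImplicit false
set_option linter.style.haveILetI false
set_option backward.isDefEq.respectTransparency.types false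

universe u

open TensorProduct WithConv Coalgebra
open scoped commutatorElement

noncomputable section

namespace Groth.Agent.RatGrp14

variable {k : Type u} [Field k] [IsAlgClosed k] {A : Type u} [CommRing A] [HopfAlgebra k A]

/-- A finitely generated domain with a map from the coordinate algebra. -/
structure Word (k : Type u) [Field k] (A : Type u) [CommRing A] [HopfAlgebra k A] where
  D : Type u
  [ring : CommRing D]
  [alg : Algebra k D]
  [dom : IsDomain D]
  [ft : Algebra.FiniteType k D]
  w : WithConv (A →ₐ[k] D)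

attribute [instance] Word.ring Word.alg Word.dom Word.ft

/-- The point given by a word. -/
def Word.eval (W : Word k A) (φ : W.D →ₐ[k] k) : WithConv (A →ₐ[k] k) := toConv (φ.comp W.w.ofConv)

theorem ptComp_mul {D : Type u} [CommRing D] [Algebra k D] {C : Type u} [CommRing C] [Algebra k C] (φ : D →ₐ[k] C)
    (f g : WithConv (A →ₐ[k] D)) : DynLim23.postHom φ (f * g) = DynLim23.postHom φ f * DynLim23.postHom φ g :=
  map_mul _ f g

theorem finiteType_tensor (B C : Type u) [CommRing B] [CommRing C] [Algebra k B] [Algebra k C] [Algebra.FiniteType k B]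
    [Algebra.FiniteType k C] : Algebra.FiniteType k (B ⊗[k] C) := by
  obtain ⟨n, f, hf⟩ := Algebra.FiniteType.iff_quotient_mvPolynomial''.1 (inferInstance : Algebra.FiniteType k B)
  obtain ⟨m, g, hg⟩ := Algebra.FiniteType.iff_quotient_mvPolynomial''.1 (inferInstance : Algebra.FiniteType k C)
  exact Algebra.FiniteType.of_surjective
    ((Algebra.TensorProduct.map f g).comp (MvPolynomial.tensorEquivSum k (Fin n) (Fin m) k).symm.toAlgHom)
    ((TensorProduct.map_surjective (g := f.toLinearMap) (g' := g.toLinearMap) hf hg).comp (AlgEquiv.surjective _))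

theorem eq_one_of_points {D : Type u} [CommRing D] [Algebra k D] [IsDomain D] [Algebra.FiniteType k D]
    (f : WithConv (A →ₐ[k] D)) (h : ∀ φ : D →ₐ[k] k, DynLim23.postHom φ f = 1) : f = 1 := by
  refine WithConv.ofConv_injective (AlgHom.ext fun a => sub_eq_zero.1 (GeomIrr.eq_zero_of_forall_algHom (k := k) fun φ => ?_))
  rw [map_sub, sub_eq_zero]
  have := AlgHom.congr_fun (congrArg WithConv.ofConv (h φ)) a
  refine this.trans ?_
  show algebraMap k k (counit (R := k) a) = φ (algebraMap k D (counit (R := k) a))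
  rw [φ.commutes]

/-- The universal iterated commutators. -/
theorem exists_last_commutator [IsDomain A] [Algebra.FiniteType k A] (hU : HopfRep.IsUnipotent k A)
    (hA : ¬ ∀ a : A, a ∈ Submodule.span k {(1 : A)}) :
    ∃ (W : Word k A) (e : W.D →ₐ[k] k), DynLim23.postHom e W.w = 1 ∧ W.w ≠ 1 ∧
      DynLim23.postHom (Algebra.TensorProduct.includeLeft : W.D →ₐ[k] W.D ⊗[k] A) W.w *
          toConv (Algebra.TensorProduct.includeRight : A →ₐ[k] W.D ⊗[k] A) =
        toConv (Algebra.TensorProduct.includeRight : A →ₐ[k] W.D ⊗[k] A) *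
          DynLim23.postHom (Algebra.TensorProduct.includeLeft : W.D →ₐ[k] W.D ⊗[k] A) W.w := by
  classical
  haveI := Unip23.isNilpotent_points hU
  obtain ⟨n, hn⟩ := Subgroup.nilpotent_iff_lowerCentralSeries.1
    (inferInstance : Group.IsNilpotent (WithConv (A →ₐ[k] k)))
  -- words whose points lie in a given term
  have key : ∀ (i : ℕ), ∀ (W : Word k A) (e : W.D →ₐ[k] k), DynLim23.postHom e W.w = 1 → (∀ φ : W.D →ₐ[k] k,
      DynLim23.postHom φ W.w ∈ Subgroup.lowerCentralSeries (⊤ : Subgroup (WithConv (A →ₐ[k] k))) (n - i)) → W.w ≠ 1 →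
      i ≤ n → ∃ (W' : Word k A) (e : W'.D →ₐ[k] k), DynLim23.postHom e W'.w = 1 ∧ W'.w ≠ 1 ∧
      DynLim23.postHom (Algebra.TensorProduct.includeLeft : W'.D →ₐ[k] W'.D ⊗[k] A) W'.w *
          toConv (Algebra.TensorProduct.includeRight : A →ₐ[k] W'.D ⊗[k] A) =
        toConv (Algebra.TensorProduct.includeRight : A →ₐ[k] W'.D ⊗[k] A) *
          DynLim23.postHom (Algebra.TensorProduct.includeLeft : W'.D →ₐ[k] W'.D ⊗[k] A) W'.w := by
    intro i
    induction i with
    | zero =>
      intro W _ _ hW hne _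
      refine absurd (eq_one_of_points W.w fun φ => ?_) hne
      have := hW φ
      rw [Nat.sub_zero, hn, Subgroup.mem_bot] at this
      exact this
    | succ i ih =>
      intro W e he hW hne hi
      haveI := GeomIrr.isDomain_tensor (k := k) W.D A
      haveI : Algebra.FiniteType k (W.D ⊗[k] A) := finiteType_tensor _ _
      set L := DynLim23.postHom (Algebra.TensorProduct.includeLeft : W.D →ₐ[k] W.D ⊗[k] A) W.w
      set R : WithConv (A →ₐ[k] W.D ⊗[k] A) := toConv (Algebra.TensorProduct.includeRight : A →ₐ[k] W.D ⊗[k] A)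
      by_cases hc : L * R = R * L
      · exact ⟨W, e, he, hne, hc⟩
      refine ih ⟨W.D ⊗[k] A, ⁅L, R⁆⟩
        (Algebra.TensorProduct.lift e (Bialgebra.counitAlgHom k A) fun _ _ => Commute.all _ _) ?_ (fun φ => ?_) (fun h => hc (commutatorElement_eq_one_iff_commute.1 h)) (by omega)
      on_goal 1 =>
        rw [map_commutatorElement]
        have hL : DynLim23.postHom (Algebra.TensorProduct.lift e (Bialgebra.counitAlgHom k A) fun _ _ => Commute.all _ _) L = 1 := by
          refine Eq.trans ?_ he
          show DynLim23.postHom ((Algebra.TensorProduct.lift e (Bialgebra.counitAlgHom k A) fun _ _ => Commute.all _ _).comp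
            Algebra.TensorProduct.includeLeft) W.w = _
          rw [Algebra.TensorProduct.lift_comp_includeLeft]
        rw [hL, commutatorElement_one_left]
      rw [map_commutatorElement, show n - i = (n - (i + 1)) + 1 by omega]
      refine Subgroup.commutator_mem_commutator ?_ (Subgroup.mem_top _)
      have := hW (φ.comp Algebra.TensorProduct.includeLeft)
      exact this
  refine key n ⟨A, toConv (AlgHom.id k A)⟩ (Bialgebra.counitAlgHom k A) ?_ (fun φ => by rw [Nat.sub_self]; exact Subgroup.mem_top _) (fun h => hA fun a => ?_)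
    le_rfl
  · rfl
  refine Submodule.mem_span_singleton.2 ⟨counit (R := k) a, ?_⟩
  rw [← Algebra.algebraMap_eq_smul_one]
  exact (AlgHom.congr_fun (congrArg WithConv.ofConv h) a).symm

omit [IsAlgClosed k] in
theorem exists_wordProduct [IsAlgClosed k] [IsDomain A] [Algebra.FiniteType k A] (W : Word k A)
    (e : W.D →ₐ[k] k) (σ : W.D →ₐ[k] W.D) (he : DynLim23.postHom e W.w = 1)
    (hσ : DynLim23.postHom σ W.w = W.w⁻¹) :
    ∃ (W' : Word k A) (e' : W'.D →ₐ[k] k) (σ' : W'.D →ₐ[k] W'.D),
      DynLim23.postHom e' W'.w = 1 ∧ DynLim23.postHom σ' W'.w = W'.w⁻¹ ∧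
      RingHom.ker W'.w.ofConv ≤ RingHom.ker W.w.ofConv ∧
      (∀ a, a ∈ RingHom.ker W'.w.ofConv ↔ Algebra.TensorProduct.map W.w.ofConv W.w.ofConv (comul (R := k) a) = 0) ∧
      (∀ {R : Type u} [CommRing R] [Algebra k R] (g : WithConv (A →ₐ[k] R)),
        (∀ φ : W.D →ₐ[k] R, DynLim23.postHom φ W.w * g = g * DynLim23.postHom φ W.w) →
        ∀ φ : W'.D →ₐ[k] R, DynLim23.postHom φ W'.w * g = g * DynLim23.postHom φ W'.w) := by
  haveI := GeomIrr.isDomain_tensor (k := k) W.D W.D
  haveI : Algebra.FiniteType k (W.D ⊗[k] W.D) := finiteType_tensor _ _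
  let il : W.D →ₐ[k] W.D ⊗[k] W.D := Algebra.TensorProduct.includeLeft
  let ir : W.D →ₐ[k] W.D ⊗[k] W.D := Algebra.TensorProduct.includeRight
  let e' : W.D ⊗[k] W.D →ₐ[k] k := Algebra.TensorProduct.lift e e fun _ _ => Commute.all _ _
  let σ' : W.D ⊗[k] W.D →ₐ[k] W.D ⊗[k] W.D :=
    Algebra.TensorProduct.lift (ir.comp σ) (il.comp σ) fun _ _ => Commute.all _ _
  have hcomp : ∀ {C C' : Type u} [CommRing C] [Algebra k C] [CommRing C'] [Algebra k C'] (f : C →ₐ[k] C')
      (φ : W.D →ₐ[k] C), DynLim23.postHom f (DynLim23.postHom φ W.w) = DynLim23.postHom (f.comp φ) W.w :=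
    fun _ _ => rfl
  refine ⟨⟨W.D ⊗[k] W.D, DynLim23.postHom il W.w * DynLim23.postHom ir W.w⟩, e', σ', ?_, ?_, fun a ha => ?_,
    fun a => ?_, fun g hg φ => ?_⟩
  · show DynLim23.postHom e' (_ * _) = 1
    rw [map_mul, hcomp, hcomp, show e'.comp il = e from Algebra.TensorProduct.lift_comp_includeLeft _ _ _,
      show e'.comp ir = e from AlgHom.ext fun x => by simp [e', ir], he, mul_one]
  · show DynLim23.postHom σ' (_ * _) = (_ * _)⁻¹
    rw [map_mul, mul_inv_rev, hcomp, hcomp, show σ'.comp il = ir.comp σ from Algebra.TensorProduct.lift_comp_includeLeft _ _ _,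
      show σ'.comp ir = il.comp σ from AlgHom.ext fun x => by simp [σ', ir], ← hcomp, ← hcomp, hσ, map_inv, map_inv]
  · let ρ : W.D ⊗[k] W.D →ₐ[k] W.D :=
      Algebra.TensorProduct.lift (AlgHom.id k W.D) ((Algebra.ofId k W.D).comp e) fun _ _ => Commute.all _ _
    have h1 : DynLim23.postHom ρ (DynLim23.postHom il W.w * DynLim23.postHom ir W.w) = W.w := by
      rw [map_mul, hcomp, hcomp, show ρ.comp il = AlgHom.id k W.D from Algebra.TensorProduct.lift_comp_includeLeft _ _ _,
        show ρ.comp ir = (Algebra.ofId k W.D).comp e from AlgHom.ext fun x => by simp [ρ, ir],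
        show DynLim23.postHom ((Algebra.ofId k W.D).comp e) W.w = DynLim23.postHom (Algebra.ofId k W.D) (DynLim23.postHom e W.w)
          from rfl, he, map_one, mul_one]
      rfl
    rw [RingHom.mem_ker] at ha ⊢
    rw [← h1]
    show ρ _ = 0
    exact (congrArg ρ ha).trans (map_zero ρ)
  · rw [RingHom.mem_ker]
    show (DynLim23.postHom il W.w * DynLim23.postHom ir W.w).ofConv a = 0 ↔ _
    rw [show DynLim23.postHom il W.w * DynLim23.postHom ir W.w =
      toConv ((Algebra.TensorProduct.map W.w.ofConv W.w.ofConv).comp (Bialgebra.comulAlgHom k A)) from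
        (map_comp_comul W.w.ofConv W.w.ofConv).symm]
    rfl
  · rw [show DynLim23.postHom φ (DynLim23.postHom il W.w * DynLim23.postHom ir W.w) =
      DynLim23.postHom (φ.comp il) W.w * DynLim23.postHom (φ.comp ir) W.w from map_mul _ _ _,
      mul_assoc, hg, ← mul_assoc, hg, mul_assoc]

/-- A commutation of a word with the generic point gives commutation with all points. -/
theorem comm_of_generic (V : Word k A)
    (hV : DynLim23.postHom (Algebra.TensorProduct.includeLeft : V.D →ₐ[k] V.D ⊗[k] A) V.w *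
          toConv (Algebra.TensorProduct.includeRight : A →ₐ[k] V.D ⊗[k] A) =
        toConv (Algebra.TensorProduct.includeRight : A →ₐ[k] V.D ⊗[k] A) *
          DynLim23.postHom (Algebra.TensorProduct.includeLeft : V.D →ₐ[k] V.D ⊗[k] A) V.w)
    (R : Type u) [CommRing R] [Algebra k R] (g : WithConv (A →ₐ[k] R)) (φ : V.D →ₐ[k] R) :
    DynLim23.postHom φ V.w * g = g * DynLim23.postHom φ V.w := by
  let Φ : V.D ⊗[k] A →ₐ[k] R := Algebra.TensorProduct.lift φ g.ofConv fun _ _ => Commute.all _ _
  have h := congrArg (DynLim23.postHom Φ) hV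
  rw [map_mul, map_mul] at h
  rw [show DynLim23.postHom Φ (DynLim23.postHom (Algebra.TensorProduct.includeLeft : V.D →ₐ[k] V.D ⊗[k] A) V.w) =
    DynLim23.postHom (Φ.comp Algebra.TensorProduct.includeLeft) V.w from rfl,
    show Φ.comp Algebra.TensorProduct.includeLeft = φ from Algebra.TensorProduct.lift_comp_includeLeft _ _ _,
    show DynLim23.postHom Φ (toConv (Algebra.TensorProduct.includeRight : A →ₐ[k] V.D ⊗[k] A)) = g from
      WithConv.ofConv_injective (AlgHom.ext fun x => by simp [DynLim23.postHom, Φ])] at h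
  exact h

/-- Symmetric central words whose image contains that of a given one. -/
structure SymWord (W : Word k A) where
  V : Word k A
  e : V.D →ₐ[k] k
  σ : V.D →ₐ[k] V.D
  he : DynLim23.postHom e V.w = 1
  hσ : DynLim23.postHom σ V.w = V.w⁻¹
  hle : RingHom.ker V.w.ofConv ≤ RingHom.ker W.w.ofConv
  hcomm : ∀ (R : Type u) [CommRing R] [Algebra k R] (g : WithConv (A →ₐ[k] R)) (φ : V.D →ₐ[k] R),
    DynLim23.postHom φ V.w * g = g * DynLim23.postHom φ V.w

theorem nonempty_symWord [IsDomain A] [Algebra.FiniteType k A] (W : Word k A) (e₀ : W.D →ₐ[k] k)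
    (he₀ : DynLim23.postHom e₀ W.w = 1)
    (hcomm : ∀ (R : Type u) [CommRing R] [Algebra k R] (g : WithConv (A →ₐ[k] R)) (φ : W.D →ₐ[k] R),
      DynLim23.postHom φ W.w * g = g * DynLim23.postHom φ W.w) : Nonempty (SymWord W) := by
  haveI := GeomIrr.isDomain_tensor (k := k) W.D W.D
  haveI : Algebra.FiniteType k (W.D ⊗[k] W.D) := finiteType_tensor _ _
  let il : W.D →ₐ[k] W.D ⊗[k] W.D := Algebra.TensorProduct.includeLeft
  let ir : W.D →ₐ[k] W.D ⊗[k] W.D := Algebra.TensorProduct.includeRight
  let w₀ : WithConv (A →ₐ[k] W.D ⊗[k] W.D) := DynLim23.postHom il W.w * (DynLim23.postHom ir W.w)⁻¹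
  have hpost : ∀ {C : Type u} [CommRing C] [Algebra k C] (φ : W.D ⊗[k] W.D →ₐ[k] C),
      DynLim23.postHom φ w₀ = DynLim23.postHom (φ.comp il) W.w * (DynLim23.postHom (φ.comp ir) W.w)⁻¹ := by
    intro C _ _ φ
    simp only [w₀, map_mul, map_inv]
    rfl
  let E : W.D ⊗[k] W.D →ₐ[k] k := Algebra.TensorProduct.lift e₀ e₀ (fun _ _ => Commute.all _ _)
  let S : W.D ⊗[k] W.D →ₐ[k] W.D ⊗[k] W.D := Algebra.TensorProduct.lift ir il (fun _ _ => Commute.all _ _)
  let ρ : W.D ⊗[k] W.D →ₐ[k] W.D :=
    Algebra.TensorProduct.lift (AlgHom.id k W.D) ((Algebra.ofId k W.D).comp e₀) fun _ _ => Commute.all _ _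
  refine ⟨⟨⟨W.D ⊗[k] W.D, w₀⟩, E, S, ?_, ?_, ?_, ?_⟩⟩
  · show DynLim23.postHom E w₀ = 1
    rw [hpost, show E.comp il = E.comp ir from AlgHom.ext fun x => by simp [E, il, ir], mul_inv_cancel]
  · show DynLim23.postHom S w₀ = w₀⁻¹
    rw [hpost, show S.comp il = ir from AlgHom.ext fun x => by simp [S, il, ir],
      show S.comp ir = il from AlgHom.ext fun x => by simp [S, il, ir]]
    simp [w₀, mul_inv_rev]
  · intro a ha
    have h1 : DynLim23.postHom ρ w₀ = W.w := by
      rw [hpost, show ρ.comp il = AlgHom.id k W.D from AlgHom.ext fun x => by simp [ρ, il],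
        show ρ.comp ir = (Algebra.ofId k W.D).comp e₀ from AlgHom.ext fun x => by simp [ρ, ir],
        show DynLim23.postHom ((Algebra.ofId k W.D).comp e₀) W.w =
          DynLim23.postHom (Algebra.ofId k W.D) (DynLim23.postHom e₀ W.w) from rfl, he₀, map_one, inv_one, mul_one]
      rfl
    rw [RingHom.mem_ker, ← h1]
    exact (congrArg ρ (show w₀.ofConv a = 0 from ha)).trans (map_zero ρ)
  · intro R _ _ g φ
    show DynLim23.postHom φ w₀ * g = g * DynLim23.postHom φ w₀
    rw [hpost]
    exact (Commute.mul_left (hcomm R g _) (Commute.inv_left (hcomm R g _))).eq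

theorem SymWord.exists_double [IsDomain A] [Algebra.FiniteType k A] {W : Word k A} (x : SymWord W) :
    ∃ y : SymWord W, RingHom.ker y.V.w.ofConv ≤ RingHom.ker x.V.w.ofConv ∧
      ∀ a, a ∈ RingHom.ker y.V.w.ofConv ↔ Algebra.TensorProduct.map x.V.w.ofConv x.V.w.ofConv (comul (R := k) a) = 0 := by
  obtain ⟨V', e', σ', he', hσ', hle, hker, hcomm'⟩ := exists_wordProduct x.V x.e x.σ x.he x.hσ
  exact ⟨⟨V', e', σ', he', hσ', hle.trans x.hle, fun R _ _ g => hcomm' g (x.hcomm R g)⟩, hle, hker⟩

/-- A nontrivial connected unipotent group has a nontrivial connected central closed subgroup. -/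
theorem exists_central [IsDomain A] [Algebra.FiniteType k A] (hU : HopfRep.IsUnipotent k A)
    (hA : ¬ ∀ a : A, a ∈ Submodule.span k {(1 : A)}) :
    ∃ (C : Type u) (_ : CommRing C) (_ : HopfAlgebra k C) (q : A →ₐc[k] C), Function.Surjective q ∧ IsDomain C ∧
      Coalgebra.IsCocomm k C ∧ (¬ ∀ c : C, c ∈ Submodule.span k {(1 : C)}) ∧
      ∀ (R : Type u) [CommRing R] [Algebra k R] (g : WithConv (A →ₐ[k] R)) (h : C →ₐ[k] R),
        g * toConv (h.comp (q : A →ₐ[k] C)) = toConv (h.comp (q : A →ₐ[k] C)) * g := by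
  classical
  haveI : IsNoetherianRing A := Algebra.FiniteType.isNoetherianRing k A
  obtain ⟨W, e₀, he₀, hW, hcomm⟩ := exists_last_commutator hU hA
  obtain ⟨base⟩ := nonempty_symWord W e₀ he₀ (comm_of_generic W hcomm)
  choose next hnext using fun x : SymWord W => x.exists_double
  let seq : ℕ → SymWord W := fun n => next^[n] base
  let P : ℕ → Ideal A := fun n => RingHom.ker (seq n).V.w.ofConv
  haveI : ∀ n, (P n).IsPrime := fun n => RingHom.ker_isPrime _
  have hP : ∀ n, P (n + 1) ≤ P n := fun n => by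
    show RingHom.ker (next^[n + 1] base).V.w.ofConv ≤ _
    rw [Function.iterate_succ', Function.comp_apply]
    exact (hnext _).1
  obtain ⟨N, hN⟩ : ∃ N, P (N + 1) = P N := by
    by_contra! h
    have hlt : ∀ n, (P (n + 1)).height < (P n).height := fun n =>
      Ideal.height_strict_mono_of_isPrime (lt_of_le_of_ne (hP n) (h n))
    exact not_strictAnti_of_wellFoundedLT (fun n => (P n).height) (strictAnti_nat_of_succ_lt hlt)
  let x := seq N
  let I := RingHom.ker x.V.w.ofConv
  have hI : ∀ a ∈ I, Algebra.TensorProduct.map x.V.w.ofConv x.V.w.ofConv (comul (R := k) a) = 0 := fun a ha => by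
    refine ((hnext x).2 a).1 ?_
    rw [show next x = seq (N + 1) from (Function.iterate_succ_apply' next N base).symm]
    show a ∈ P (N + 1)
    rw [hN]
    exact ha
  let q₀ : A →ₐ[k] A ⧸ I := Ideal.Quotient.mkₐ k I
  have hq₀ : ∀ a ∈ I, Algebra.TensorProduct.map q₀ q₀ (comul (R := k) a) = 0 := fun a ha => by
    let ι : A ⧸ I →ₐ[k] x.V.D := Ideal.kerLiftAlg x.V.w.ofConv
    have hι : Function.Injective ι := Ideal.kerLiftAlg_injective _
    refine TensorProduct.map_injective_of_flat_flat ι.toLinearMap ι.toLinearMap hι hι ?_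
    rw [map_zero, ← hI a ha]
    generalize comul (R := k) a = z
    induction z using TensorProduct.induction_on with
    | zero => simp
    | add u v hu hv => simp only [map_add, hu, hv]
    | tmul u v => rfl
  have hanti : ∀ a ∈ I, HopfAlgebra.antipode k a ∈ I := fun a ha => by
    have h1 := AlgHom.congr_fun (congrArg WithConv.ofConv x.hσ) a
    show x.V.w.ofConv (HopfAlgebra.antipode k a) = 0
    refine h1.symm.trans ?_
    show x.σ (x.V.w.ofConv a) = 0
    rw [show x.V.w.ofConv a = 0 from ha, map_zero]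
  haveI : I.IsHopfIdeal k := DynLim23.isHopfIdeal_of_subgroups I (fun R _ _ =>
    { carrier := {g | ∀ a ∈ I, g.ofConv a = 0}
      one_mem' := fun a ha => by
        have h1 := AlgHom.congr_fun (congrArg WithConv.ofConv x.he) a
        show algebraMap k R (counit (R := k) a) = 0
        rw [show counit (R := k) a = x.e (x.V.w.ofConv a) from h1.symm, show x.V.w.ofConv a = 0 from ha,
          map_zero, map_zero]
      mul_mem' := fun {g h} hg hh a ha => by
        let g' := Ideal.Quotient.liftₐ I g.ofConv hg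
        let h' := Ideal.Quotient.liftₐ I h.ofConv hh
        rw [AlgHom.convMul_apply]
        refine Eq.trans ?_ ((congrArg (Algebra.TensorProduct.lift g' h' fun _ _ => Commute.all _ _) (hq₀ a ha)).trans (map_zero _))
        generalize comul (R := k) a = z
        induction z using TensorProduct.induction_on with
        | zero => simp
        | add u v hu hv => simp only [map_add] at hu hv ⊢; rw [hu, hv]
        | tmul u v => simp [g', h', q₀]
      inv_mem' := fun {g} hg a ha => hg _ (hanti a ha) })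
    fun R _ _ g => Iff.rfl
  let q : A →ₐc[k] A ⧸ I := Bialgebra.Quotient.mkBialgHom (R := k) I
  have hq : Function.Surjective q := Ideal.Quotient.mk_surjective
  haveI : I.IsPrime := RingHom.ker_isPrime _
  have hcentral : ∀ (R : Type u) [CommRing R] [Algebra k R] (g : WithConv (A →ₐ[k] R)) (h : A ⧸ I →ₐ[k] R),
      g * toConv (h.comp (q : A →ₐ[k] A ⧸ I)) = toConv (h.comp (q : A →ₐ[k] A ⧸ I)) * g := by
    have hu : toConv ((Algebra.TensorProduct.includeLeft : A ⧸ I →ₐ[k] (A ⧸ I) ⊗[k] A).comp q₀) *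
        toConv (Algebra.TensorProduct.includeRight : A →ₐ[k] (A ⧸ I) ⊗[k] A) =
        toConv (Algebra.TensorProduct.includeRight : A →ₐ[k] (A ⧸ I) ⊗[k] A) *
        toConv ((Algebra.TensorProduct.includeLeft : A ⧸ I →ₐ[k] (A ⧸ I) ⊗[k] A).comp q₀) := by
      let ι : A ⧸ I →ₐ[k] x.V.D := Ideal.kerLiftAlg x.V.w.ofConv
      let Ι := Algebra.TensorProduct.map ι (AlgHom.id k A)
      have hΙ : Function.Injective Ι :=
        Module.Flat.rTensor_preserves_injective_linearMap (M := A) ι.toLinearMap (Ideal.kerLiftAlg_injective _)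
      have e1 : DynLim23.postHom Ι (toConv ((Algebra.TensorProduct.includeLeft : A ⧸ I →ₐ[k] (A ⧸ I) ⊗[k] A).comp q₀)) =
          DynLim23.postHom (Algebra.TensorProduct.includeLeft : x.V.D →ₐ[k] x.V.D ⊗[k] A) x.V.w :=
        WithConv.ofConv_injective (AlgHom.ext fun a => by simp [DynLim23.postHom, Ι, ι, q₀]; rfl)
      have e2 : DynLim23.postHom Ι (toConv (Algebra.TensorProduct.includeRight : A →ₐ[k] (A ⧸ I) ⊗[k] A)) =
          toConv (Algebra.TensorProduct.includeRight : A →ₐ[k] x.V.D ⊗[k] A) :=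
        WithConv.ofConv_injective (AlgHom.ext fun a => by simp [DynLim23.postHom, Ι])
      have h := x.hcomm _ (toConv (Algebra.TensorProduct.includeRight : A →ₐ[k] x.V.D ⊗[k] A)) Algebra.TensorProduct.includeLeft
      rw [← e1, ← e2, ← map_mul, ← map_mul] at h
      exact WithConv.ofConv_injective (AlgHom.ext fun a => hΙ (AlgHom.congr_fun (congrArg WithConv.ofConv h) a))
    intro R _ _ g h
    let Φ : (A ⧸ I) ⊗[k] A →ₐ[k] R := Algebra.TensorProduct.lift h g.ofConv fun _ _ => Commute.all _ _
    have h1 := congrArg (DynLim23.postHom Φ) hu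
    rw [map_mul, map_mul,
      show DynLim23.postHom Φ (toConv ((Algebra.TensorProduct.includeLeft : A ⧸ I →ₐ[k] (A ⧸ I) ⊗[k] A).comp q₀)) =
        toConv (h.comp (q : A →ₐ[k] A ⧸ I)) from WithConv.ofConv_injective (AlgHom.ext fun a => by
          simp [DynLim23.postHom, Φ, q₀]; rfl),
      show DynLim23.postHom Φ (toConv (Algebra.TensorProduct.includeRight : A →ₐ[k] (A ⧸ I) ⊗[k] A)) = g from
        WithConv.ofConv_injective (AlgHom.ext fun a => by simp [DynLim23.postHom, Φ])] at h1
    exact h1.symm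
  refine ⟨A ⧸ I, inferInstance, inferInstance, q, hq, inferInstance, ?_, ?_, hcentral⟩
  · let C := A ⧸ I
    let l : C →ₐ[k] C ⊗[k] C := Algebra.TensorProduct.includeLeft
    let r : C →ₐ[k] C ⊗[k] C := Algebra.TensorProduct.includeRight
    have h := hcentral (C ⊗[k] C) (toConv (l.comp (q : A →ₐ[k] C))) r
    rw [show toConv (l.comp (q : A →ₐ[k] C)) * toConv (r.comp (q : A →ₐ[k] C)) =
      toConv ((Algebra.TensorProduct.map (q : A →ₐ[k] C) (q : A →ₐ[k] C)).comp (Bialgebra.comulAlgHom k A)) from
        (map_comp_comul _ _).symm,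
      show toConv (r.comp (q : A →ₐ[k] C)) * toConv (l.comp (q : A →ₐ[k] C)) =
      DynLim23.postHom (Algebra.TensorProduct.comm k C C : C ⊗[k] C →ₐ[k] C ⊗[k] C)
        (toConv ((Algebra.TensorProduct.map (q : A →ₐ[k] C) (q : A →ₐ[k] C)).comp (Bialgebra.comulAlgHom k A))) by
        rw [map_comp_comul, map_mul]
        congr 1 <;> exact WithConv.ofConv_injective (AlgHom.ext fun a => by simp [DynLim23.postHom, l, r])] at h
    refine ⟨LinearMap.ext fun c => ?_⟩
    obtain ⟨a, rfl⟩ := hq c
    have h1 := AlgHom.congr_fun (congrArg WithConv.ofConv h) a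
    have hm : ∀ z, Algebra.TensorProduct.map (q : A →ₐ[k] C) (q : A →ₐ[k] C) z =
        TensorProduct.map (q : A →ₐc[k] C).toLinearMap (q : A →ₐc[k] C).toLinearMap z := fun z => by
      induction z using TensorProduct.induction_on with
      | zero => simp
      | add u v hu hv => simp only [map_add, hu, hv]
      | tmul u v => rfl
    have hc : Algebra.TensorProduct.map (q : A →ₐ[k] C) (q : A →ₐ[k] C) (comul (R := k) a) = comul (R := k) (q a) := by
      rw [hm]; exact CoalgHomClass.map_comp_comul_apply q a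
    show TensorProduct.comm k C C (comul (R := k) (q a)) = comul (R := k) (q a)
    rw [← hc]
    exact h1.symm
  · intro htriv
    apply hW
    refine WithConv.ofConv_injective (AlgHom.ext fun a => ?_)
    obtain ⟨c, hc⟩ := Submodule.mem_span_singleton.1 (htriv (q a))
    have hI' : a - algebraMap k A c ∈ I := by
      refine Ideal.Quotient.eq.1 ?_
      show q a = q (algebraMap k A c)
      rw [← hc, AlgHomClass.commutes, Algebra.algebraMap_eq_smul_one]
    have h2 : W.w.ofConv (a - algebraMap k A c) = 0 := x.hle hI'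
    rw [map_sub, AlgHom.commutes, sub_eq_zero] at h2
    rw [h2]
    show _ = algebraMap k W.D (counit (R := k) a)
    congr 1
    have hc' := congrArg (counit (R := k)) hc
    rw [map_smul, CoalgHomClass.counit_comp_apply, Bialgebra.counit_one, smul_eq_mul, mul_one] at hc'
    exact hc'

end Groth.Agent.RatGrp14
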