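import Groth.Agent.Lib.RatGrp14.Slice
import Groth.Agent.Lib.DynLim23.Unip
import Mathlib.RingTheory.Finiteness.Cardinality
import Mathlib.LinearAlgebra.Dimension.Finite

/-!
# The grading of the coordinate ring by a one-parameter subgroup, and homogeneous coordinates at the identity
-/

set_option autoImplicit false
set_option linter.style.haveILetI false
set_option backward.isDefEq.respectTransparency.types false

universe u

open LaurentPolynomial TensorProduct WithConv Coalgebra

noncomputable section

namespace Groth.Agent.RatGrp14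

variable {k : Type u} [Field k] {A : Type u} [CommRing A] [HopfAlgebra k A] (lam : A →ₐc[k] k[T;T⁻¹])

/-- The conjugation orbit of the generic point. -/
def orb : A →ₐ[k] A[T;T⁻¹] := Dyn.conjOrbit k A lam A (AlgHom.id k A)

/-- Weight components. -/
def gr (n : ℤ) : A →ₗ[k] A where
  toFun a := (orb lam a).coeff n
  map_add' a b := by simp
  map_smul' c a := by simp

theorem gr_apply (n : ℤ) (a : A) : gr lam n a = (orb lam a).coeff n := rfl

/-- Homogeneous elements. -/
def IsHom (n : ℤ) (a : A) : Prop := orb lam a = AddMonoidAlgebra.single n a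

theorem isHom_gr (n : ℤ) (a : A) : IsHom lam n (gr lam n a) := by
  refine AddMonoidAlgebra.coeff_injective (Finsupp.ext fun m => ?_)
  have h := congrArg (fun f : A[T;T⁻¹][T;T⁻¹] => (f.coeff n).coeff m)
    (AlgHom.congr_fun (DynLim23.conjOrbit_conjOrbit lam A (AlgHom.id k A)) a)
  simp only [AlgHom.comp_apply] at h
  rw [DynLim23.coeff_conjOrbit] at h
  refine Eq.trans h ?_
  rw [gr_apply]
  show ((DynLim23.dbl (k := k) A (orb lam a)).coeff n).coeff m = _
  generalize orb lam a = f
  induction f using LaurentPolynomial.induction_on' with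
  | add f g hf hg =>
    simp only [map_add, AddMonoidAlgebra.coeff_add, Finsupp.add_apply, hf, hg, AddMonoidAlgebra.coeff_single]
    simp [Finsupp.single_add]
  | C_mul_T l r =>
    rw [← LaurentPolynomial.single_eq_C_mul_T, DynLim23.dbl_single]
    simp only [AddMonoidAlgebra.coeff_single]
    rcases eq_or_ne l n with rfl | hl
    · simp only [Finsupp.single_eq_same, AddMonoidAlgebra.coeff_single]
    · simp [Finsupp.single_eq_of_ne (Ne.symm hl)]

theorem IsHom.gr_eq {n : ℤ} {a : A} (h : IsHom lam n a) (m : ℤ) : gr lam m a = if n = m then a else 0 := by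
  rw [gr_apply, show orb lam a = _ from h, AddMonoidAlgebra.coeff_single, Finsupp.single_apply]

theorem IsHom.mul {m n : ℤ} {a b : A} (ha : IsHom lam m a) (hb : IsHom lam n b) : IsHom lam (m + n) (a * b) := by
  rw [IsHom, map_mul, show orb lam a = _ from ha, show orb lam b = _ from hb, AddMonoidAlgebra.single_mul_single]

theorem isHom_one : IsHom lam 0 (1 : A) := by rw [IsHom, map_one]; rfl

theorem sum_gr (a : A) : ∑ n ∈ (orb lam a).coeff.support, gr lam n a = a := by
  conv_rhs => rw [← AlgHom.id_apply (R := k) a, ← DynLim23.evOne_conjOrbit lam A (AlgHom.id k A)]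
  show _ = DynLim23.evOne (k := k) A (orb lam a)
  conv_rhs => rw [← AddMonoidAlgebra.sum_coeff_single (orb lam a), Finsupp.sum, map_sum]
  exact Finset.sum_congr rfl fun n _ => (DynLim23.evOne_single (k := k) A n _).symm

theorem counit_gr (n : ℤ) (a : A) : counit (R := k) (gr lam n a) = if n = 0 then counit (R := k) a else 0 := by
  show Bialgebra.counitAlgHom k A ((Dyn.conjOrbit k A lam A (AlgHom.id k A) a).coeff n) = _
  rw [← DynLim23.coeff_conjOrbit lam k (Bialgebra.counitAlgHom k A)]
  have h1 : DynLim23.orbitHom lam k (1 : WithConv (A →ₐ[k] k)) = 1 := map_one _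
  rw [DynLim23.orbitHom_apply] at h1
  rw [show Dyn.conjOrbit k A lam k (Bialgebra.counitAlgHom k A) = (1 : WithConv (A →ₐ[k] k[T;T⁻¹])).ofConv from
    (congrArg (fun g => Dyn.conjOrbit k A lam k g) (AlgHom.ext fun x => rfl)).trans (congrArg WithConv.ofConv h1)]
  show (algebraMap k k[T;T⁻¹] (counit (R := k) a)).coeff n = _
  rw [show algebraMap k k[T;T⁻¹] (counit (R := k) a) = AddMonoidAlgebra.single 0 (counit (R := k) a) from rfl,
    AddMonoidAlgebra.coeff_single, Finsupp.single_apply]
  exact if_congr eq_comm rfl rfl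

variable (k A) in
/-- The ideal of the identity. -/
def aug : Ideal A := RingHom.ker (Bialgebra.counitAlgHom k A)

instance : (aug k A).IsMaximal :=
  RingHom.ker_isMaximal_of_surjective _ fun c => ⟨algebraMap k A c, AlgHom.commutes _ c⟩

theorem mem_aug {a : A} : a ∈ aug k A ↔ counit (R := k) a = 0 := Iff.rfl

theorem gr_mem_aug {n : ℤ} {a : A} (ha : a ∈ aug k A) : gr lam n a ∈ aug k A := by
  rw [mem_aug, counit_gr, mem_aug.1 ha, ite_self]

theorem counit_of_isHom {n : ℤ} {a : A} (h : IsHom lam n a) (hn : n ≠ 0) : counit (R := k) a = 0 := by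
  have := counit_gr lam n a
  rwa [h.gr_eq, if_pos rfl, if_neg hn] at this

theorem gr_mul_mem {I J : Ideal A} {a b : A} (ha : ∀ i, gr lam i a ∈ I) (hb : ∀ j, gr lam j b ∈ J) (n : ℤ) :
    gr lam n (a * b) ∈ I * J := by
  conv => arg 2; rw [← sum_gr lam a, ← sum_gr lam b, Finset.sum_mul_sum, map_sum]
  refine Submodule.sum_mem _ fun i _ => ?_
  rw [map_sum]
  refine Submodule.sum_mem _ fun j _ => ?_
  rw [((isHom_gr lam i a).mul lam (isHom_gr lam j b)).gr_eq]
  split_ifs
  · exact Ideal.mul_mem_mul (ha i) (hb j)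
  · exact zero_mem _

theorem gr_mem_pow : ∀ (N : ℕ) {a : A}, a ∈ aug k A ^ N → ∀ n, gr lam n a ∈ aug k A ^ N := by
  intro N
  induction N with
  | zero => intro a _ n; rw [pow_zero, Ideal.one_eq_top]; trivial
  | succ N ih =>
    intro a ha n
    rw [pow_succ] at ha ⊢
    exact Submodule.mul_induction_on ha (fun x hx y hy => gr_mul_mem lam (ih hx) (fun j => gr_mem_aug lam hy) n)
      fun x y hx hy => by rw [map_add]; exact add_mem hx hy

/-- Weights of products from a high power of the maximal ideal. -/
theorem gr_mem_of_pow (I : Ideal A) (hI : ∀ n : ℤ, 0 ≤ n → ∀ a ∈ aug k A, gr lam n a ∈ I) :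
    ∀ (N : ℕ) {a : A}, a ∈ aug k A ^ N → ∀ v : ℤ, -(N : ℤ) < v → gr lam v a ∈ I := by
  intro N
  induction N with
  | zero =>
    intro a _ v hv
    have hv' : 0 < v := by simpa using hv
    have : gr lam v a = gr lam v (a - algebraMap k A (counit (R := k) a)) := by
      rw [map_sub, show algebraMap k A (counit (R := k) a) = counit (R := k) a • (1 : A) from Algebra.algebraMap_eq_smul_one _,
        map_smul, (isHom_one lam).gr_eq, if_neg hv'.ne, smul_zero, sub_zero]
    rw [this]
    exact hI v hv'.le _ (by simp [mem_aug])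
  | succ N ih =>
    intro a ha v hv
    rw [pow_succ] at ha
    refine Submodule.mul_induction_on ha (fun x hx y hy => ?_) (fun x y hx hy => ?_)
    swap
    · rw [map_add]; exact add_mem hx hy
    ·
      conv => arg 2; rw [← sum_gr lam x, ← sum_gr lam y, Finset.sum_mul_sum, map_sum]
      refine Submodule.sum_mem _ fun i _ => ?_
      rw [map_sum]
      refine Submodule.sum_mem _ fun j _ => ?_
      rw [((isHom_gr lam i x).mul lam (isHom_gr lam j y)).gr_eq]
      split_ifs with hij
      · rcases le_or_gt 0 j with hj | hj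
        · exact I.mul_mem_left _ (hI j hj y hy)
        · exact I.mul_mem_right _ (ih hx i (by push_cast at hv; omega))
      · exact zero_mem _

variable [Algebra.FiniteType k A]

/-- Homogeneous coordinates at the identity. -/
theorem exists_coords : ∃ (n : ℕ) (w : Fin n → ℤ) (y : Fin n → A), (∀ i, IsHom lam (w i) (y i)) ∧
    (∀ i, y i ∈ aug k A) ∧
    (∀ a ∈ aug k A, a ∈ Submodule.span k (Set.range y) ⊔ (aug k A ^ 2).restrictScalars k) ∧
    ∀ c : Fin n → k, ∑ i, c i • y i ∈ aug k A ^ 2 → c = 0 := by
  classical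
  haveI : IsNoetherianRing A := Algebra.FiniteType.isNoetherianRing k A
  let V := A ⧸ (aug k A ^ 2).restrictScalars k
  let mk : A →ₗ[k] V := Submodule.mkQ _
  obtain ⟨s, hs⟩ := IsNoetherian.noetherian (aug k A)
  let S : Set V := mk '' {a | a ∈ aug k A ∧ ∃ v, IsHom lam v a}
  have hfin : Module.Finite k (Submodule.span k (mk '' (aug k A : Set A))) := by
    refine Module.Finite.iff_fg.2 ⟨s.image mk, le_antisymm (Submodule.span_le.2 ?_) (Submodule.span_le.2 ?_)⟩
    · intro x hx
      obtain ⟨a, ha, rfl⟩ := Finset.mem_image.1 (Finset.mem_coe.1 hx)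
      exact Submodule.subset_span ⟨a, hs ▸ Submodule.subset_span ha, rfl⟩
    · rintro _ ⟨a, ha, rfl⟩
      have ha' : a ∈ Submodule.span A (s : Set A) := hs.symm ▸ ha
      clear ha
      induction ha' using Submodule.span_induction with
      | mem x hx => exact Submodule.subset_span (Finset.mem_coe.2 (Finset.mem_image_of_mem mk hx))
      | zero => rw [map_zero]; exact zero_mem _
      | add x y _ _ hx hy => rw [map_add]; exact add_mem hx hy
      | smul r x hx hx' =>
        have hxm : x ∈ aug k A := hs ▸ hx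
        rw [smul_eq_mul, show mk (r * x) = mk (counit (R := k) r • x) from (Submodule.Quotient.eq _).2 (by
          show r * x - counit (R := k) r • x ∈ aug k A ^ 2
          rw [Algebra.smul_def, ← sub_mul, pow_two]
          exact Ideal.mul_mem_mul (by simp [mem_aug]) hxm), map_smul]
        exact Submodule.smul_mem _ _ hx'
  obtain ⟨b, hbS, hbspan, hbli⟩ := exists_linearIndependent k S
  have hbfin : b.Finite := by
    let ι : b → Submodule.span k (mk '' (aug k A : Set A)) := fun x =>
      ⟨x.1, Submodule.subset_span (by obtain ⟨a, ha, e⟩ := hbS x.2; exact ⟨a, ha.1, e⟩)⟩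
    have hι : LinearIndependent k ι := LinearIndependent.of_comp (Submodule.subtype _) hbli
    exact Set.finite_coe_iff.1 hι.finite
  let e := hbfin.toFinset.equivFin
  have hmem : ∀ i, (e.symm i : V) ∈ S := fun i => hbS (hbfin.mem_toFinset.1 (e.symm i).2)
  choose y hy hymk using hmem
  choose hyaug w hw using hy
  have hrange : mk '' Set.range y = b := by
    ext x
    refine ⟨?_, fun hx => ⟨y (e ⟨x, hbfin.mem_toFinset.2 hx⟩), ⟨_, rfl⟩, by rw [hymk, Equiv.symm_apply_apply]⟩⟩
    rintro ⟨_, ⟨i, rfl⟩, rfl⟩
    rw [hymk]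
    exact hbfin.mem_toFinset.1 (e.symm i).2
  refine ⟨_, w, y, hw, hyaug, fun a ha => ?_, fun c hc => ?_⟩
  · have h1 : mk a ∈ Submodule.span k S := by
      rw [← sum_gr lam a, map_sum]
      exact Submodule.sum_mem _ fun n _ => Submodule.subset_span ⟨_, ⟨gr_mem_aug lam ha, n, isHom_gr lam n a⟩, rfl⟩
    rw [← hbspan, ← hrange, Submodule.span_image] at h1
    obtain ⟨z, hz, hzeq⟩ := h1
    refine Submodule.mem_sup.2 ⟨z, hz, a - z, ?_, add_sub_cancel _ _⟩
    exact (Submodule.Quotient.eq _).1 hzeq.symm
  · have hli : LinearIndependent k (fun i => mk (y i)) := by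
      simp only [hymk]
      exact hbli.comp (fun i => (⟨_, hbfin.mem_toFinset.1 (e.symm i).2⟩ : b)) fun i j h =>
        e.symm.injective (Subtype.ext (congrArg (fun z : b => (z : V)) h))
    have h0 : ∑ i, c i • mk (y i) = 0 := by
      simp only [← map_smul, ← map_sum]
      exact (Submodule.Quotient.mk_eq_zero _).2 hc
    exact funext (Fintype.linearIndependent_iff.1 hli c h0)

omit [Algebra.FiniteType k A] in
/-- Homogeneous elements of the maximal ideal lie in any submodule containing the monomials of their weight, up to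
higher order. -/
theorem descend {n : ℕ} {w : Fin n → ℤ} {y : Fin n → A} (hy : ∀ i, IsHom lam (w i) (y i)) (hyaug : ∀ i, y i ∈ aug k A)
    (hspan : ∀ a ∈ aug k A, a ∈ Submodule.span k (Set.range y) ⊔ (aug k A ^ 2).restrictScalars k)
    (L : Submodule k A) (v : ℤ)
    (hL : ∀ l : List (Fin n), l ≠ [] → (l.map w).sum = v → (l.map y).prod ∈ L)
    {a : A} (ha : a ∈ aug k A) (hav : IsHom lam v a) :
    ∀ N : ℕ, 1 ≤ N → ∃ l ∈ L, a - l ∈ aug k A ^ N ∧ gr lam v l = l := by
  let M : ℕ → Submodule k A := fun N => Submodule.span k {x | ∃ l : List (Fin n), l.length = N ∧ (l.map y).prod = x}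
  have hM : ∀ N, (aug k A ^ N).restrictScalars k ≤ M N ⊔ (aug k A ^ (N + 1)).restrictScalars k := by
    intro N
    induction N with
    | zero =>
      intro x _
      refine Submodule.mem_sup.2 ⟨counit (R := k) x • 1, Submodule.smul_mem _ _ (Submodule.subset_span ⟨[], rfl, rfl⟩),
        x - counit (R := k) x • 1, ?_, add_sub_cancel _ _⟩
      show x - counit (R := k) x • 1 ∈ aug k A ^ 1
      rw [pow_one, mem_aug, map_sub, map_smul, Bialgebra.counit_one]
      simp
    | succ N ih =>
      intro x hx
      change x ∈ aug k A ^ (N + 1) at hx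
      rw [pow_succ] at hx
      refine Submodule.mul_induction_on hx (fun p hp q hq => ?_) (fun p q hp hq => ?_)
      swap
      · exact add_mem hp hq
      ·
        obtain ⟨p₁, hp₁, p₂, hp₂, rfl⟩ := Submodule.mem_sup.1 (ih hp)
        obtain ⟨q₁, hq₁, q₂, hq₂, rfl⟩ := Submodule.mem_sup.1 (hspan q hq)
        have h2 : p₂ * (q₁ + q₂) + p₁ * q₂ ∈ aug k A ^ (N + 1 + 1) := by
          refine add_mem ?_ ?_
          · rw [pow_succ]; exact Ideal.mul_mem_mul hp₂ hq
          · have hp₁' : p₁ ∈ aug k A ^ N := by
              refine Submodule.span_le (p := (aug k A ^ N).restrictScalars k) |>.2 ?_ hp₁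
              rintro _ ⟨l, rfl, rfl⟩
              clear hp₁ hx ih hp hp₂
              induction l with
              | nil => rw [List.length_nil, pow_zero, Ideal.one_eq_top]; trivial
              | cons i l ihl =>
                show _ ∈ aug k A ^ _
                rw [List.length_cons, List.map_cons, List.prod_cons, pow_succ']
                exact Ideal.mul_mem_mul (hyaug i) ihl
            rw [show N + 1 + 1 = N + 2 by omega, pow_add]
            exact Ideal.mul_mem_mul hp₁' hq₂
        rw [show (p₁ + p₂) * (q₁ + q₂) = p₁ * q₁ + (p₂ * (q₁ + q₂) + p₁ * q₂) by ring]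
        refine add_mem (Submodule.mem_sup_left ?_) (Submodule.mem_sup_right h2)
        have h3 : p₁ * q₁ ∈ M N * Submodule.span k (Set.range y) := Submodule.mul_mem_mul hp₁ hq₁
        refine Submodule.span_le.2 ?_ ((Submodule.span_mul_span k _ _).le h3)
        rintro _ ⟨_, ⟨l, rfl, rfl⟩, _, ⟨i, rfl⟩, rfl⟩
        refine Submodule.subset_span ⟨l ++ [i], by simp, by simp⟩
  have hgrM : ∀ N, 1 ≤ N → ∀ x ∈ M N, gr lam v x ∈ L := by
    intro N hN x hx
    induction hx using Submodule.span_induction with
    | zero => rw [map_zero]; exact zero_mem _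
    | add p q _ _ hp hq => rw [map_add]; exact add_mem hp hq
    | smul c p _ hp => rw [map_smul]; exact Submodule.smul_mem _ _ hp
    | mem p hp =>
      obtain ⟨l, hl, rfl⟩ := hp
      have hom : IsHom lam (l.map w).sum (l.map y).prod := by
        clear hl
        induction l with
        | nil => exact isHom_one lam
        | cons i l ihl => rw [List.map_cons, List.map_cons, List.sum_cons, List.prod_cons]; exact (hy i).mul lam ihl
      rw [hom.gr_eq]
      split_ifs with h
      · exact hL l (by rintro rfl; simp at hl; omega) h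
      · exact zero_mem _
  intro N hN
  induction N, hN using Nat.le_induction with
  | base => exact ⟨0, zero_mem _, by simpa using ha, map_zero _⟩
  | succ N hN ih =>
    obtain ⟨l, hl, hr, hfix⟩ := ih
    obtain ⟨r₁, hr₁, r₂, hr₂, hr12⟩ := Submodule.mem_sup.1 (hM N hr)
    refine ⟨l + gr lam v r₁, add_mem hl (hgrM N hN r₁ hr₁), ?_, ?_⟩
    · have h2 : gr lam v (a - l) = a - l := by rw [map_sub, hav.gr_eq, if_pos rfl, hfix]
      rw [show a - (l + gr lam v r₁) = gr lam v r₂ by rw [← sub_sub, ← h2, ← hr12, map_add, add_sub_cancel_left]]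
      exact gr_mem_pow lam _ hr₂ v
    · rw [map_add, hfix, (isHom_gr lam v r₁).gr_eq, if_pos rfl]

end Groth.Agent.RatGrp14
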