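import Groth.Agent.Lib.RatGrp14.Central
import Groth.Agent.Lib.UniStr23.Killed2
import Groth.Agent.Lib.UniStr23.Quot
import Groth.Agent.Lib.Unip23.Log
import Groth.Agent.Lib.VarDim.Alg

/-!
# Connected unipotent groups are rational
-/

set_option autoImplicit false
set_option linter.style.haveILetI false
set_option backward.isDefEq.respectTransparency.types false

universe u

open TensorProduct WithConv Coalgebra Polynomial

noncomputable section

namespace Groth.Agent.RatGrp14

variable {k : Type u} [Field k]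

section prim

variable {C : Type u} [CommRing C] [HopfAlgebra k C]

theorem conv_apply_prim {R : Type u} [CommRing R] [Algebra k R] (f g : WithConv (C →ₐ[k] R)) {x : C}
    (hx : Unip23.IsPrim (k := k) x) : (f * g).ofConv x = f.ofConv x + g.ofConv x := by
  rw [AlgHom.convMul_apply, show comul (R := k) x = _ from hx]
  simp

/-- Primitive free generators give an additive curve. -/
theorem exists_curve_prim {n : ℕ} (z : Fin (n + 1) → C) (hz : ∀ i, Unip23.IsPrim (k := k) (z i))
    (hind : AlgebraicIndependent k z) (hgen : Algebra.adjoin k (Set.range z) = ⊤) :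
    ∃ π : C →ₐ[k] k[X], Function.Surjective π ∧
      ∀ (R : Type u) [CommRing R] [Algebra k R] (r s : R), cpt π r * cpt π s = cpt π (r + s) := by
  let F : MvPolynomial (Fin (n + 1)) k →ₐ[k] C := MvPolynomial.aeval z
  have hF : Function.Bijective F := by
    refine ⟨algebraicIndependent_iff_injective_aeval.1 hind, fun c => ?_⟩
    have hc : c ∈ Algebra.adjoin k (Set.range z) := hgen ▸ trivial
    rw [Algebra.adjoin_range_eq_range_aeval] at hc
    exact hc
  let e := AlgEquiv.ofBijective F hF
  let ev : MvPolynomial (Fin (n + 1)) k →ₐ[k] k[X] := MvPolynomial.aeval fun i => if i = 0 then Polynomial.X else 0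
  have hv : ∀ i, ev (e.symm (z i)) = if i = 0 then Polynomial.X else 0 := fun i => by
    rw [show e.symm (z i) = MvPolynomial.X i from e.symm_apply_eq.2 (MvPolynomial.aeval_X z i).symm, MvPolynomial.aeval_X]
  refine ⟨ev.comp e.symm.toAlgHom, ?_, fun R _ _ r s => ?_⟩
  · refine Function.Surjective.comp (g := ev) (fun P => ?_) e.symm.surjective
    refine ⟨Polynomial.aeval (MvPolynomial.X 0) P, ?_⟩
    rw [← Polynomial.aeval_algHom_apply]
    simp [ev]
  · refine WithConv.ofConv_injective (AlgHom.ext_of_adjoin_eq_top hgen ?_)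
    rintro _ ⟨i, rfl⟩
    rw [conv_apply_prim _ _ (hz i)]
    simp only [cpt, ofConv_toConv, AlgHom.comp_apply, AlgEquiv.toAlgHom_apply, hv]
    split_ifs <;> simp

end prim

variable [IsAlgClosed k] {A : Type u} [CommRing A] [HopfAlgebra k A] [IsDomain A] [Algebra.FiniteType k A]

omit [IsAlgClosed k] [IsDomain A] [Algebra.FiniteType k A] in
theorem cpt_comp_bialg {C : Type u} [CommRing C] [HopfAlgebra k C] (π : C →ₐ[k] k[X]) (q : A →ₐc[k] C)
    {R : Type u} [CommRing R] [Algebra k R] (r : R) :
    cpt (π.comp (q : A →ₐ[k] C)) r = toConv ((cpt π r).ofConv.comp (q : A →ₐ[k] C)) := rfl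

/-- A nontrivial connected unipotent group contains a central additive group. -/
theorem exists_isCurve (hU : HopfRep.IsUnipotent k A) (hA : ¬ ∀ a : A, a ∈ Submodule.span k {(1 : A)}) :
    ∃ π : A →ₐ[k] k[X], IsCurve π := by
  classical
  obtain ⟨C, _, _, q, hq, hCdom, hCcc, hCne, hcentral⟩ := exists_central hU hA
  haveI := hCdom
  haveI := hCcc
  haveI : Algebra.FiniteType k C := Algebra.FiniteType.of_surjective (q : A →ₐ[k] C) hq
  have hCU := UnipExt20.isUnipotent_of_surjective q hq hU
  -- a quotient map onto a vector group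
  obtain ⟨C', _, _, q', hq', n, z, hz, hind, hgen, hne⟩ : ∃ (C' : Type u) (_ : CommRing C') (_ : HopfAlgebra k C')
      (q' : C →ₐc[k] C') (_ : Function.Surjective q') (n : ℕ) (z : Fin n → C'), (∀ i, Unip23.IsPrim (k := k) (z i)) ∧
      AlgebraicIndependent k z ∧ Algebra.adjoin k (Set.range z) = ⊤ ∧
      ¬ ∀ c : C', c ∈ Submodule.span k {(1 : C')} := by
    rcases CharP.exists' k with hchar | ⟨p, hp, hchar⟩
    · haveI := hchar
      obtain ⟨n, x, hind, hgen, hx⟩ := Unip23.exists_primitive_generators hCU
      exact ⟨C, inferInstance, inferInstance, BialgHom.id k C, fun c => ⟨c, rfl⟩, n, x, hx, hind, hgen, hCne⟩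
    · haveI := hp
      haveI := hchar
      have hkill : ∃ r, UnipPow23.powHom (k := k) (A := C) (p ^ r) = 1 := by
        obtain ⟨r, hr⟩ := UnipPow23.pow_char_pow_eq_one_of_isUnipotent p hCU (T := C)
        exact ⟨r, hr _⟩
      obtain ⟨m, hm, hmin⟩ : ∃ m, UnipPow23.powHom (k := k) (A := C) (p ^ (m + 1)) = 1 ∧
          UnipPow23.powHom (k := k) (A := C) (p ^ m) ≠ 1 := by
        have h0 : Nat.find hkill ≠ 0 := fun h => hCne fun c => by
          have h1 := Nat.find_spec hkill
          rw [h, pow_zero, UnipPow23.powHom, pow_one] at h1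
          refine Submodule.mem_span_singleton.2 ⟨counit (R := k) c, ?_⟩
          rw [← Algebra.algebraMap_eq_smul_one]
          exact (AlgHom.congr_fun (congrArg WithConv.ofConv h1) c).symm
        obtain ⟨m, hm⟩ := Nat.exists_eq_succ_of_ne_zero h0
        refine ⟨m, ?_, Nat.find_min hkill (by omega)⟩
        have h1 := Nat.find_spec hkill
        rwa [hm] at h1
      let ψ : C →ₐc[k] C := UnipPow23.powBialg (p ^ m)
      let I := RingHom.ker (ψ : C →ₐ[k] C)
      haveI : I.IsHopfIdeal k := HopfFF23.isHopfIdeal_ker ψ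
      haveI : I.IsPrime := RingHom.ker_isPrime _
      let r : C →ₐc[k] C ⧸ I := Bialgebra.Quotient.mkBialgHom (R := k) I
      have hr : Function.Surjective r := Ideal.Quotient.mk_surjective
      haveI : Algebra.FiniteType k (C ⧸ I) := Algebra.FiniteType.of_surjective (r : C →ₐ[k] C ⧸ I) hr
      haveI : Coalgebra.IsCocomm k (C ⧸ I) := UniStr23.cocomm_of_surjective r hr
      have hI1 : ∀ c, (UnipPow23.powHom (k := k) (A := C) (p ^ m)).ofConv c ≠ algebraMap k C (counit (R := k) c) →
          r c ≠ algebraMap k (C ⧸ I) (counit (R := k) c) := fun c hc he => hc (by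
        rw [← AlgHomClass.commutes r] at he
        have h2 : (ψ : C →ₐ[k] C) (c - algebraMap k C (counit (R := k) c)) = 0 := Ideal.Quotient.eq.1 he
        rw [map_sub, AlgHom.commutes, sub_eq_zero] at h2
        exact h2)
      have hkillI : UnipPow23.powHom (k := k) (A := C ⧸ I) p = 1 := (UniStr23.kill_iff p).2 fun y => by
        obtain ⟨a, rfl⟩ := hr y
        have e := AlgHom.congr_fun (UniStr23.powHom_comp r p) a
        simp only [AlgHom.comp_apply] at e
        refine e.symm.trans ?_
        rw [CoalgHomClass.counit_comp_apply r a, ← AlgHomClass.commutes r]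
        refine Ideal.Quotient.eq.2 ?_
        show (ψ : C →ₐ[k] C) _ = 0
        rw [map_sub, sub_eq_zero, AlgHom.commutes]
        show (UnipPow23.powHom (k := k) (A := C) (p ^ m)).ofConv ((UnipPow23.powHom (k := k) (A := C) p).ofConv a) = _
        rw [← AlgHom.comp_apply, UniStr23.powHom_powHom, ← pow_succ, hm]
        rfl
      obtain ⟨n, z, hz, hind, hgen⟩ := UniStr23.exists_vec (UnipExt20.isUnipotent_of_surjective r hr hCU) hkillI
      refine ⟨C ⧸ I, inferInstance, inferInstance, r, hr, n, z, hz, hind, hgen, fun htriv => hmin ?_⟩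
      refine WithConv.ofConv_injective (AlgHom.ext fun c => ?_)
      by_contra hc
      refine hI1 c hc ?_
      obtain ⟨a, ha⟩ := Submodule.mem_span_singleton.1 (htriv (r c))
      have ha' := congrArg (counit (R := k)) ha
      rw [map_smul, CoalgHomClass.counit_comp_apply, Bialgebra.counit_one, smul_eq_mul, mul_one] at ha'
      rw [← ha, Algebra.algebraMap_eq_smul_one, ha']
  obtain ⟨n, rfl⟩ : ∃ n', n = n' + 1 := ⟨n - 1, by
    by_contra hn
    refine hne fun c => ?_
    have hc : c ∈ Algebra.adjoin k (Set.range z) := hgen ▸ trivial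
    rw [show Set.range z = ∅ from Set.range_eq_empty_iff.2 (by rw [show n = 0 by omega]; exact Fin.isEmpty'), Algebra.adjoin_empty,
      Algebra.mem_bot] at hc
    obtain ⟨b, rfl⟩ := hc
    exact Submodule.mem_span_singleton.2 ⟨b, (Algebra.algebraMap_eq_smul_one b).symm⟩⟩
  obtain ⟨π, hπs, hπa⟩ := exists_curve_prim z hz hind hgen
  let Q : A →ₐc[k] C' := q'.comp q
  refine ⟨π.comp (Q : A →ₐ[k] C'), ⟨fun R _ _ r s => ?_, fun R _ _ r g => ?_, hπs.comp (hq'.comp hq)⟩⟩
  · rw [cpt_comp_bialg, cpt_comp_bialg, cpt_comp_bialg, ← hπa R r s]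
    exact WithConv.ofConv_injective (AlgHom.convMul_comp_bialgHom_distrib _ _ Q).symm
  · exact hcentral R g ((cpt π r).ofConv.comp (q' : C →ₐ[k] C'))

omit [IsAlgClosed k] in
theorem tdeg_eq_of_fractionEquiv {B : Type u} [CommRing B] [IsDomain B] [Algebra k B] [Algebra.FiniteType k B]
    (e : FractionRing A ≃ₐ[k] FractionRing B) : VarDim.tdeg k A = VarDim.tdeg k B := by
  haveI : Algebra.IsAlgebraic A (FractionRing A) := IsLocalization.isAlgebraic _ (nonZeroDivisors A)
  haveI : Algebra.IsAlgebraic B (FractionRing B) := IsLocalization.isAlgebraic _ (nonZeroDivisors B)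
  have hA : Algebra.trdeg k (FractionRing A) = VarDim.tdeg k A := by
    rw [← trdeg_add_eq k A (A := FractionRing A), trdeg_eq_zero (R := A) (A := FractionRing A), add_zero,
      VarDim.trdeg_eq_tdeg]
  have hB : Algebra.trdeg k (FractionRing B) = VarDim.tdeg k B := by
    rw [← trdeg_add_eq k B (A := FractionRing B), trdeg_eq_zero (R := B) (A := FractionRing B), add_zero,
      VarDim.trdeg_eq_tdeg]
  have h := hA.symm.trans ((AlgEquiv.trdeg_eq e).trans hB)
  exact_mod_cast h

/-- Connected unipotent groups are rational. -/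
theorem isRat_of_isUnipotent : ∀ (A : Type u) [CommRing A] [HopfAlgebra k A] [IsDomain A] [Algebra.FiniteType k A],
    HopfRep.IsUnipotent k A → IsRat k A := by
  suffices H : ∀ (N : ℕ) (A : Type u) [CommRing A] [HopfAlgebra k A] [IsDomain A] [Algebra.FiniteType k A],
      VarDim.tdeg k A = N → HopfRep.IsUnipotent k A → IsRat k A from fun A _ _ _ _ => H _ A rfl
  intro N
  induction N using Nat.strong_induction_on with
  | _ N ih =>
    intro A _ _ _ _ hN hU
    by_cases hA : ∀ a : A, a ∈ Submodule.span k {(1 : A)}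
    · have hb : Function.Bijective (Algebra.ofId k A) := ⟨(algebraMap k A).injective, fun a => by
        obtain ⟨c, hc⟩ := Submodule.mem_span_singleton.1 (hA a)
        exact ⟨c, by rw [← hc, ← Algebra.algebraMap_eq_smul_one]; rfl⟩⟩
      exact (isRat_polynomialFin (k := k) 0).of_algEquiv
        ((AlgEquiv.ofBijective _ hb).symm.trans (MvPolynomial.isEmptyAlgEquiv k (Fin 0)).symm)
    · obtain ⟨π, hπ⟩ := exists_isCurve hU hA
      obtain ⟨B, _, _, _, _, j, hj, ⟨e⟩⟩ := hπ.exists_quotient
      have hlt : VarDim.tdeg k B < N := by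
        have h1 := tdeg_eq_of_fractionEquiv (k := k) e
        have h2 : Algebra.trdeg k (Polynomial B) = Algebra.trdeg k B + 1 := by
          rw [← trdeg_add_eq k B (A := Polynomial B), Polynomial.trdeg_of_isDomain]
        rw [VarDim.trdeg_eq_tdeg, VarDim.trdeg_eq_tdeg] at h2
        have h3 : VarDim.tdeg k (Polynomial B) = VarDim.tdeg k B + 1 := by exact_mod_cast h2
        omega
      exact ((ih _ hlt B rfl (UnipExt20.isUnipotent_of_injective j hj hU)).polynomial).of_fractionEquiv e

end Groth.Agent.RatGrp14
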