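import Groth.Agent.Lib.RatGrp14.Rat
import Groth.Agent.Lib.RatGrp14.Unip
import Groth.Agent.Lib.RatGrp14.Grading
import Groth.Agent.Lib.HopfDim23.AlgClosed
import Groth.Agent.Lib.GrpSmooth19.Basic
import Groth.Agent.Lib.VarDim.Alg
import Mathlib.AlgebraicGeometry.Group.Affine
import Mathlib.RingTheory.KrullDimension.NonZeroDivisors

/-!
# The contracted decomposition of a connected group by a one-parameter subgroup

`exists_step`: a one-parameter subgroup acting nontrivially exhibits the group birationally as the product of an affine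
space with a smaller connected group.
-/

set_option autoImplicit false
set_option linter.style.haveILetI false
set_option backward.isDefEq.respectTransparency.types false

universe u

open LaurentPolynomial TensorProduct WithConv Coalgebra

noncomputable section

namespace Groth.Agent.RatGrp14

variable {k : Type u} [Field k]

section sat

variable (k) {A : Type u} [CommRing A] [HopfAlgebra k A]

/-- The elements lying in an ideal locally at the identity. -/
def sat (I : Ideal A) : Ideal A :=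
  (I.map (algebraMap A (Localization.AtPrime (aug k A)))).comap (algebraMap A (Localization.AtPrime (aug k A)))

variable {k}

theorem mem_sat {I : Ideal A} {a : A} : a ∈ sat k I ↔ ∃ t : A, t ∉ aug k A ∧ t * a ∈ I := by
  rw [sat, Ideal.mem_comap, IsLocalization.algebraMap_mem_map_algebraMap_iff (aug k A).primeCompl]
  rfl

theorem le_sat (I : Ideal A) : I ≤ sat k I := Ideal.le_comap_map

theorem sat_le_of_le_sat {I J : Ideal A} (h : J ≤ sat k I) : sat k J ≤ sat k I :=
  Ideal.comap_mono (Ideal.map_le_iff_le_comap.2 h)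

theorem exists_mul_mem_of_forall_pow [IsNoetherianRing A] (I : Ideal A) (a : A)
    (h : ∀ N, a ∈ I ⊔ aug k A ^ N) : a ∈ sat k I := by
  have hx : Ideal.Quotient.mk I a ∈ (⨅ i : ℕ, aug k A ^ i • ⊤ : Submodule A (A ⧸ I)) := by
    rw [Submodule.mem_iInf]
    intro N
    obtain ⟨b, hb, c, hc, rfl⟩ := Submodule.mem_sup.1 (h N)
    rw [map_add, Ideal.Quotient.eq_zero_iff_mem.2 hb, zero_add, show Ideal.Quotient.mk I c = c • (1 : A ⧸ I) by
      rw [Algebra.smul_def, mul_one]; rfl]
    exact Submodule.smul_mem_smul hc trivial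
  obtain ⟨⟨r, hr⟩, e⟩ := ((aug k A).mem_iInf_smul_pow_eq_bot_iff _).1 hx
  refine mem_sat.2 ⟨1 - r, fun hm => (aug k A).ne_top_iff_one.1 (Ideal.IsMaximal.ne_top inferInstance) ?_,
    Ideal.Quotient.eq_zero_iff_mem.1 ?_⟩
  · simpa using add_mem hm hr
  · rw [map_mul, map_sub, map_one, sub_mul, one_mul, sub_eq_zero]
    exact e.symm

end sat

section smooth

open AlgebraicGeometry CategoryTheory Opposite

variable [IsAlgClosed k] (A : Type u) [CommRing A] [HopfAlgebra k A] [Algebra.FiniteType k A]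

theorem smooth_of_isReduced [IsReduced A] : Algebra.Smooth k A := by
  let G := ((hopfSpec (CommRingCat.of k)).obj (op (CommHopfAlgCat.of k A))).X
  have e : G.hom = Spec.map (CommRingCat.ofHom (algebraMap k A)) := rfl
  haveI : LocallyOfFiniteType G.hom := by
    rw [e]
    exact (HasRingHomProperty.Spec_iff (P := @LocallyOfFiniteType)).2 (RingHom.finiteType_algebraMap.2 inferInstance)
  haveI : AlgebraicGeometry.IsReduced G.left := inferInstanceAs (AlgebraicGeometry.IsReduced (Spec (CommRingCat.of A)))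
  have h := GrpSmooth19.smooth_of_isReduced G
  rw [e] at h
  exact RingHom.smooth_algebraMap.1 ((HasRingHomProperty.Spec_iff (P := @Smooth)).1 h)

theorem ringKrullDim_eq_finrank [IsReduced A] :
    ringKrullDim A = (Module.finrank k (TruncPoly23.aug k A).Cotangent : WithBot ℕ∞) := by
  haveI := smooth_of_isReduced (k := k) A
  exact (HopfDim23.ringKrullDim_eq_iff k A).2 inferInstance

end smooth

section coord

variable {A : Type u} [CommRing A] [HopfAlgebra k A] (lam : A →ₐc[k] k[T;T⁻¹])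

/-- Homogeneous coordinates at the identity. -/
structure Coord where
  n : ℕ
  w : Fin n → ℤ
  y : Fin n → A
  hom : ∀ i, IsHom lam (w i) (y i)
  mem : ∀ i, y i ∈ aug k A
  span : ∀ a ∈ aug k A, a ∈ Submodule.span k (Set.range y) ⊔ (aug k A ^ 2).restrictScalars k
  li : ∀ c : Fin n → k, ∑ i, c i • y i ∈ aug k A ^ 2 → c = 0

theorem nonempty_coord [Algebra.FiniteType k A] : Nonempty (Coord lam) :=
  let ⟨n, w, y, h1, h2, h3, h4⟩ := exists_coords lam
  ⟨⟨n, w, y, h1, h2, h3, h4⟩⟩

variable {lam} (c : Coord lam)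

/-- The ideal of some of the coordinates. -/
def Coord.ideal (S : Finset (Fin c.n)) : Ideal A := Ideal.span (c.y '' (S : Set (Fin c.n)))

theorem Coord.ideal_le_aug (S : Finset (Fin c.n)) : c.ideal S ≤ aug k A :=
  Ideal.span_le.2 (by rintro _ ⟨i, -, rfl⟩; exact c.mem i)

theorem Coord.prod_mem_ideal (S : Finset (Fin c.n)) {l : List (Fin c.n)} {i : Fin c.n} (hi : i ∈ l) (hS : i ∈ S) :
    (l.map c.y).prod ∈ c.ideal S := by
  obtain ⟨z, hz⟩ := List.dvd_prod (List.mem_map_of_mem (f := c.y) hi)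
  rw [hz]
  exact Ideal.mul_mem_right _ _ (Ideal.subset_span ⟨i, hS, rfl⟩)

theorem Coord.mem_sat_of_isHom [IsNoetherianRing A] (S : Finset (Fin c.n)) (v : ℤ)
    (hS : ∀ l : List (Fin c.n), l ≠ [] → (l.map c.w).sum = v → ∃ i ∈ l, i ∈ S) {x : A} (hx : x ∈ aug k A)
    (hv : IsHom lam v x) : x ∈ sat k (c.ideal S) := by
  refine exists_mul_mem_of_forall_pow _ _ fun N => ?_
  rcases Nat.eq_zero_or_pos N with rfl | hN
  · simp
  obtain ⟨l, hl, hr, -⟩ := descend lam c.hom c.mem c.span ((c.ideal S).restrictScalars k) v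
    (fun l hl hsum => by obtain ⟨i, hi, hiS⟩ := hS l hl hsum; exact c.prod_mem_ideal S hi hiS) hx hv N hN
  exact Submodule.mem_sup.2 ⟨l, hl, x - l, hr, add_sub_cancel _ _⟩

theorem Coord.aug_le [IsNoetherianRing A] (N : ℕ) : aug k A ≤ c.ideal Finset.univ ⊔ aug k A ^ N := by
  have h2 : aug k A ≤ c.ideal Finset.univ ⊔ aug k A ^ 2 := fun a ha => by
    obtain ⟨p, hp, q, hq, rfl⟩ := Submodule.mem_sup.1 (c.span a ha)
    refine Submodule.add_mem_sup ?_ hq
    refine Submodule.span_le (p := (c.ideal Finset.univ).restrictScalars k) |>.2 ?_ hp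
    rintro _ ⟨i, rfl⟩
    exact Ideal.subset_span ⟨i, by simp, rfl⟩
  induction N with
  | zero => simp
  | succ N ih =>
    refine h2.trans (sup_le le_sup_left ?_)
    rw [pow_two]
    refine (Ideal.mul_mono ih le_rfl).trans ?_
    rw [Ideal.sup_mul, pow_succ]
    exact sup_le_sup Ideal.mul_le_left le_rfl

variable [Algebra.FiniteType k A]

theorem Coord.n_eq : Module.finrank k (TruncPoly23.aug k A).Cotangent = c.n := by
  classical
  haveI : IsNoetherianRing A := Algebra.FiniteType.isNoetherianRing k A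
  refine le_antisymm ((HopfDim23.finrank_le_of_span _ (Set.finite_range c.y) (fun a ha => ?_) ?_).trans ?_) ?_
  · have h := exists_mul_mem_of_forall_pow (k := k) (c.ideal Finset.univ) a (fun N => c.aug_le N ha)
    rw [mem_sat, Coord.ideal, Finset.coe_univ, Set.image_univ] at h
    exact h
  · rintro _ ⟨i, rfl⟩; exact c.mem i
  · rw [← Set.image_univ]
    exact (Set.ncard_image_le Set.finite_univ).trans (by simp)
  · haveI := TruncPoly23.finite_cotangent (k := k) (A := A)
    have hli : LinearIndependent k (fun i => TruncPoly23.proj (k := k) (c.y i)) := by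
      refine Fintype.linearIndependent_iff.2 fun g hg => ?_
      have hm : ∑ i, g i • c.y i ∈ TruncPoly23.aug k A :=
        Submodule.sum_mem _ fun i _ => Submodule.smul_of_tower_mem _ _ (c.mem i)
      simp only [← map_smul, ← map_sum] at hg
      rw [TruncPoly23.proj_of_mem hm, Ideal.toCotangent_eq_zero] at hg
      exact congrFun (c.li g hg)
    simpa using hli.fintype_card_le_finrank

variable [IsDomain A] [IsAlgClosed k]

theorem Coord.tdeg_eq : VarDim.tdeg k A = c.n := by
  have h := (VarDim.ringKrullDim_eq_tdeg k A).symm.trans ((ringKrullDim_eq_finrank A).trans (by rw [c.n_eq]))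
  exact_mod_cast h

theorem Coord.le_dim (J : Ideal A) (S : Finset (Fin c.n)) (hJ : J ≤ sat k (c.ideal S)) :
    ((c.n - S.card : ℕ) : WithBot ℕ∞) ≤ ringKrullDim (A ⧸ J) := by
  haveI : IsNoetherianRing A := Algebra.FiniteType.isNoetherianRing k A
  classical
  obtain ⟨q, hq, hqm⟩ := Ideal.exists_minimalPrimes_le (J := aug k A) (c.ideal_le_aug S)
  haveI := hq.1.1
  have hJq : J ≤ q := fun a ha => by
    obtain ⟨t, ht, hta⟩ := mem_sat.1 (hJ ha)
    exact (hq.1.1.mem_or_mem (hq.1.2 hta)).resolve_left fun h => ht (hqm h)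
  have hht : q.height ≤ (S.card : ℕ∞) := by
    refine Ideal.height_le_card_of_mem_minimalPrimes_span_finset (s := S.image c.y) ?_ |>.trans
      (Nat.cast_le.2 Finset.card_image_le)
    rw [Finset.coe_image]
    exact hq
  have key := VarDim.height_add_coheight_nat k A ⟨q, inferInstance⟩
  rw [← PrimeSpectrum.height_eq_orderHeight, VarDim.coheight_eq_tdeg k A, c.tdeg_eq] at key
  have h1 : c.n ≤ S.card + VarDim.tdeg k (A ⧸ q) := by
    have : (c.n : ℕ∞) ≤ (S.card : ℕ∞) + (VarDim.tdeg k (A ⧸ q) : ℕ∞) := key ▸ add_le_add hht le_rfl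
    exact_mod_cast this
  refine le_trans ?_ (ringKrullDim_le_of_surjective (Ideal.Quotient.factor hJq) (Ideal.Quotient.factor_surjective hJq))
  rw [VarDim.ringKrullDim_eq_tdeg k (A ⧸ q)]
  exact_mod_cast (show c.n - S.card ≤ VarDim.tdeg k (A ⧸ q) by omega)

end coord

section step

variable {A : Type u} [CommRing A] [HopfAlgebra k A] (lam : A →ₐc[k] k[T;T⁻¹])

/-- The opposite one-parameter subgroup. -/
def lamNeg : A →ₐc[k] k[T;T⁻¹] := (AddMonoidAlgebra.mapDomainBialgHom k (negAddMonoidHom : ℤ →+ ℤ)).comp lam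

theorem lamNeg_eq : (lamNeg lam : A →ₐ[k] k[T;T⁻¹]) = Dyn.negParam k A lam := by
  refine AlgHom.ext fun a => ?_
  show AddMonoidAlgebra.mapDomainBialgHom k (negAddMonoidHom : ℤ →+ ℤ) (lam a) =
    LaurentPolynomial.invert (lam a)
  generalize lam a = z
  induction z using LaurentPolynomial.induction_on' with
  | add a b ha hb => simp only [map_add, ha, hb]
  | C_mul_T n r =>
    rw [map_mul LaurentPolynomial.invert, LaurentPolynomial.invert_C, LaurentPolynomial.invert_T,
      ← LaurentPolynomial.single_eq_C_mul_T, ← LaurentPolynomial.single_eq_C_mul_T]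
    exact AddMonoidAlgebra.mapDomain_single

theorem gr_lamNeg (n : ℤ) (a : A) : gr (lamNeg lam) n a = gr lam (-n) a := by
  show (Dyn.conjOrbit k A (lamNeg lam) A (AlgHom.id k A) a).coeff n = _
  rw [DynLim23.conjOrbit_neg lam A (lamNeg lam) (lamNeg_eq lam)]
  exact DynLim23.coeff_inv' (k := k) A _ n

theorem mem_limIdeal {n : ℤ} (hn : n < 0) (a : A) : gr lam n a ∈ DynLim23.limIdeal lam :=
  Ideal.subset_span ⟨a, n, hn, rfl⟩

theorem mem_oneIdeal_neg {n : ℤ} (hn : 0 < n) (a : A) : gr lam n a ∈ DynLim23.oneIdeal (lamNeg lam) := by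
  refine Submodule.mem_sup_left ?_
  have := mem_limIdeal (lamNeg lam) (n := -n) (by omega) a
  rwa [gr_lamNeg, neg_neg] at this

theorem mem_oneIdeal_zero (a : A) :
    gr lam 0 a - algebraMap k A (counit (R := k) a) ∈ DynLim23.oneIdeal (lamNeg lam) := by
  refine Submodule.mem_sup_right (Ideal.subset_span ⟨a, ?_⟩)
  show gr (lamNeg lam) 0 a - _ = _
  rw [gr_lamNeg, neg_zero]

theorem mem_oneIdeal_of_nonneg {n : ℤ} (hn : 0 ≤ n) {a : A} (ha : a ∈ aug k A) :
    gr lam n a ∈ DynLim23.oneIdeal (lamNeg lam) := by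
  rcases hn.eq_or_lt with rfl | hn
  · have := mem_oneIdeal_zero lam a
    rwa [mem_aug.1 ha, map_zero, sub_zero] at this
  · exact mem_oneIdeal_neg lam hn a

theorem exists_nonneg_mem {ι : Type*} {w : ι → ℤ} {l : List ι} (hl : l ≠ []) (h : 0 ≤ (l.map w).sum) :
    ∃ i ∈ l, 0 ≤ w i := by
  by_contra hc
  push Not at hc
  induction l with
  | nil => exact hl rfl
  | cons i l ih =>
    rw [List.map_cons, List.sum_cons] at h
    have hi := hc i (List.mem_cons_self ..)
    by_cases hl' : l = []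
    · subst hl'; simp at h; omega
    · exact ih hl' (by omega) fun j hj => hc j (List.mem_cons_of_mem _ hj)

theorem exists_neg_mem {ι : Type*} {w : ι → ℤ} {l : List ι} (h : (l.map w).sum < 0) : ∃ i ∈ l, w i < 0 := by
  by_contra hc
  push Not at hc
  exact absurd h (not_lt.2 (List.sum_nonneg (by simpa using hc)))

variable {lam} (c : Coord lam)

/-- The negative coordinates. -/
def Coord.neg : Finset (Fin c.n) := Finset.univ.filter fun i => c.w i < 0

theorem Coord.mem_neg {i : Fin c.n} : i ∈ c.neg ↔ c.w i < 0 := by simp [Coord.neg]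

variable [IsNoetherianRing A]

theorem Coord.limIdeal_le : DynLim23.limIdeal lam ≤ sat k (c.ideal c.neg) := by
  refine Ideal.span_le.2 ?_
  rintro _ ⟨a, n, hn, rfl⟩
  refine c.mem_sat_of_isHom c.neg n (fun l _ hsum => ?_) ?_ (isHom_gr lam n a)
  · obtain ⟨i, hi, hw⟩ := exists_neg_mem (hsum.trans_lt hn)
    exact ⟨i, hi, c.mem_neg.2 hw⟩
  · exact mem_aug.2 ((counit_gr lam n a).trans (if_neg hn.ne))

theorem Coord.oneIdeal_le : DynLim23.oneIdeal (lamNeg lam) ≤ sat k (c.ideal c.negᶜ) := by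
  have key : ∀ v : ℤ, 0 ≤ v → ∀ x ∈ aug k A, IsHom lam v x → x ∈ sat k (c.ideal c.negᶜ) := fun v hv x hx hxv => by
    refine c.mem_sat_of_isHom _ v (fun l hl hsum => ?_) hx hxv
    obtain ⟨i, hi, hw⟩ := exists_nonneg_mem hl (hv.trans hsum.ge)
    exact ⟨i, hi, Finset.mem_compl.2 fun h => (c.mem_neg.1 h).not_ge hw⟩
  refine sup_le (Ideal.span_le.2 ?_) (Ideal.span_le.2 ?_)
  · rintro _ ⟨a, n, hn, rfl⟩
    show gr (lamNeg lam) n a ∈ _
    rw [gr_lamNeg]
    exact key _ (by omega) _ (mem_aug.2 ((counit_gr lam _ a).trans (if_neg (by omega)))) (isHom_gr lam _ a)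
  · rintro _ ⟨a, rfl⟩
    show gr (lamNeg lam) 0 a - algebraMap k A (counit (R := k) a) ∈ _
    have e : gr (lamNeg lam) 0 a - algebraMap k A (counit (R := k) a) =
        gr lam 0 (a - algebraMap k A (counit (R := k) a)) := by
      rw [gr_lamNeg, neg_zero, map_sub, Algebra.algebraMap_eq_smul_one, map_smul, (isHom_one lam).gr_eq, if_pos rfl]
    rw [e]
    exact key 0 le_rfl _ (gr_mem_aug lam (by simp [mem_aug])) (isHom_gr lam 0 _)

omit [IsNoetherianRing A] in
theorem Coord.y_mem_limIdeal {i : Fin c.n} (hi : i ∈ c.neg) : c.y i ∈ DynLim23.limIdeal lam := by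
  have := mem_limIdeal lam (c.mem_neg.1 hi) (c.y i)
  rwa [(c.hom i).gr_eq, if_pos rfl] at this

omit [IsNoetherianRing A] in
theorem Coord.y_mem_oneIdeal {i : Fin c.n} (hi : i ∉ c.neg) : c.y i ∈ DynLim23.oneIdeal (lamNeg lam) := by
  have := mem_oneIdeal_of_nonneg lam (not_lt.1 fun h => hi (c.mem_neg.2 h)) (c.mem i)
  rwa [(c.hom i).gr_eq, if_pos rfl] at this

/-- The negative coordinates generate the functions on the contracted subgroup. -/
theorem Coord.adjoin_eq_top :
    Algebra.adjoin k (Ideal.Quotient.mk (DynLim23.oneIdeal (lamNeg lam)) '' (c.y '' (c.neg : Set (Fin c.n)))) = ⊤ := by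
  set J := DynLim23.oneIdeal (lamNeg lam)
  set q := Ideal.Quotient.mkₐ k J
  set R := Algebra.adjoin k (Ideal.Quotient.mk J '' (c.y '' (c.neg : Set (Fin c.n))))
  let L : Submodule k A := (Subalgebra.toSubmodule R).comap q.toLinearMap
  have hJL : ∀ x ∈ J, x ∈ L := fun x hx => by
    show q x ∈ R
    rw [show q x = 0 from Ideal.Quotient.eq_zero_iff_mem.2 hx]
    exact zero_mem R
  have hneg : ∀ n : ℤ, n < 0 → ∀ a, gr lam n a ∈ L := fun n hn a => by
    obtain ⟨N, hN⟩ : ∃ N : ℕ, -n < (N : ℤ) := ⟨(-n).toNat + 1, by omega⟩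
    have hprod : ∀ l : List (Fin c.n), l ≠ [] → (l.map c.w).sum = n → (l.map c.y).prod ∈ L := fun l _ _ => by
      by_cases hmem : ∀ i ∈ l, i ∈ c.neg
      · show q (l.map c.y).prod ∈ R
        rw [map_list_prod]
        refine list_prod_mem fun x hx => ?_
        simp only [List.map_map, List.mem_map, Function.comp_apply] at hx
        obtain ⟨i, hi, rfl⟩ := hx
        exact Algebra.subset_adjoin ⟨_, ⟨i, hmem i hi, rfl⟩, rfl⟩
      · push Not at hmem
        obtain ⟨i, hi, hineg⟩ := hmem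
        refine hJL _ ?_
        obtain ⟨z, hz⟩ := List.dvd_prod (List.mem_map_of_mem (f := c.y) hi)
        rw [hz]
        exact J.mul_mem_right _ (c.y_mem_oneIdeal hineg)
    obtain ⟨l, hl, hr, hfix⟩ := descend lam c.hom c.mem c.span L n hprod (a := gr lam n a)
      (mem_aug.2 ((counit_gr lam n a).trans (if_neg hn.ne))) (isHom_gr lam n a) (N + 1) (by omega)
    rw [show gr lam n a = l + (gr lam n a - l) by ring]
    refine add_mem hl (hJL _ ?_)
    have h1 : gr lam n (gr lam n a - l) = gr lam n a - l := by rw [map_sub, (isHom_gr lam n a).gr_eq, if_pos rfl, hfix]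
    rw [← h1]
    exact gr_mem_of_pow lam J (fun i hi x hx => mem_oneIdeal_of_nonneg lam hi hx) _ hr n (by omega)
  refine top_le_iff.1 fun z _ => ?_
  obtain ⟨a, rfl⟩ := Ideal.Quotient.mk_surjective z
  show q a ∈ R
  rw [← sum_gr lam a, map_sum]
  refine sum_mem fun n _ => ?_
  rcases lt_trichotomy n 0 with hn | rfl | hn
  · exact hneg n hn a
  · rw [show q (gr lam 0 a) = algebraMap k (A ⧸ J) (counit (R := k) a) from
      (Ideal.Quotient.eq.2 (mem_oneIdeal_zero lam a)).trans (AlgHom.commutes q _)]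
    exact R.algebraMap_mem _
  · exact hJL _ (mem_oneIdeal_neg lam hn a)

end step

theorem tdeg_congr {A B : Type u} [CommRing A] [CommRing B] [IsDomain A] [IsDomain B] [Algebra k A] [Algebra k B]
    [Algebra.FiniteType k A] [Algebra.FiniteType k B] (e : FractionRing A ≃ₐ[k] FractionRing B) :
    VarDim.tdeg k A = VarDim.tdeg k B := by
  haveI : Algebra.IsAlgebraic A (FractionRing A) := IsLocalization.isAlgebraic _ (nonZeroDivisors A)
  haveI : Algebra.IsAlgebraic B (FractionRing B) := IsLocalization.isAlgebraic _ (nonZeroDivisors B)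
  have hA : Algebra.trdeg k (FractionRing A) = VarDim.tdeg k A := by
    rw [← trdeg_add_eq k A (A := FractionRing A), trdeg_eq_zero (R := A) (A := FractionRing A), add_zero,
      VarDim.trdeg_eq_tdeg]
  have hB : Algebra.trdeg k (FractionRing B) = VarDim.tdeg k B := by
    rw [← trdeg_add_eq k B (A := FractionRing B), trdeg_eq_zero (R := B) (A := FractionRing B), add_zero,
      VarDim.trdeg_eq_tdeg]
  have h := hA.symm.trans ((AlgEquiv.trdeg_eq e).trans hB)
  exact_mod_cast h

section main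

variable [IsAlgClosed k] {A : Type u} [CommRing A] [HopfAlgebra k A] [IsDomain A] [Algebra.FiniteType k A]
  (lam : A →ₐc[k] k[T;T⁻¹])

omit [IsAlgClosed k] [IsDomain A] [Algebra.FiniteType k A] in
/-- A point killing both contracted ideals of opposite sign is trivial. -/
theorem eq_one_of_mem {R : Type u} [CommRing R] [Algebra k R] {g : WithConv (A →ₐ[k] R)}
    (h1 : g ∈ DynLim23.oneGrp (lamNeg lam) R) (h2 : g ∈ DynLim23.limGrp lam R) : g = 1 := by
  obtain ⟨g, rfl⟩ : ∃ g' : A →ₐ[k] R, toConv g' = g := ⟨g.ofConv, rfl⟩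
  rw [DynLim23.mem_oneGrp] at h1
  rw [DynLim23.mem_limGrp] at h2
  obtain ⟨h, hh, -⟩ := id h1
  have hfix := (DynLim23.conjOrbit_eq_incl_iff lam R (lamNeg lam) (lamNeg_eq lam) g).1 ⟨h2, h, hh⟩
  refine WithConv.ofConv_injective (AlgHom.ext fun a => ?_)
  have h0 := ((DynLim23.limIsOne_iff (lamNeg lam) R g).1 h1).2 a
  rw [DynLim23.conjOrbit_neg lam R (lamNeg lam) (lamNeg_eq lam), AlgHom.comp_apply, DynLim23.coeff_inv', neg_zero,
    hfix] at h0
  change (AddMonoidAlgebra.single (0 : ℤ) (g a)).coeff 0 = _ at h0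
  rw [AddMonoidAlgebra.coeff_single, Finsupp.single_eq_same] at h0
  exact h0

/-- The reduction step along a one-parameter subgroup acting nontrivially. -/
theorem exists_step (hlam : ∃ a : A, ∃ n : ℤ, n < 0 ∧ gr lam n a ≠ 0) :
    ∃ (P₀ : Type u) (_ : CommRing P₀) (_ : HopfAlgebra k P₀) (_ : IsDomain P₀) (_ : Algebra.FiniteType k P₀),
      VarDim.tdeg k P₀ < VarDim.tdeg k A ∧ (IsRat k P₀ → IsRat k A) := by
  classical
  haveI : IsNoetherianRing A := Algebra.FiniteType.isNoetherianRing k A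
  obtain ⟨c⟩ := nonempty_coord lam
  set Jp := DynLim23.limIdeal lam with hJp
  set Jm := DynLim23.oneIdeal (lamNeg lam) with hJm
  haveI : Jp.IsHopfIdeal k := DynLim23.isHopfIdeal_limIdeal lam
  have hJp_aug : Jp ≤ aug k A := Ideal.span_le.2 (by
    rintro _ ⟨a, n, hn, rfl⟩
    exact mem_aug.2 ((counit_gr lam n a).trans (if_neg hn.ne)))
  -- the subgroup of points with a limit is smooth
  let P := A ⧸ Jp
  haveI : Algebra.FiniteType k P := Algebra.FiniteType.of_surjective (Ideal.Quotient.mkₐ k Jp) Ideal.Quotient.mk_surjective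
  haveI : IsNoetherianRing P := Algebra.FiniteType.isNoetherianRing k P
  have hεP : ∀ a : A, Bialgebra.counitAlgHom k P (Ideal.Quotient.mk Jp a) = counit (R := k) a := fun a =>
    CoalgHomClass.counit_comp_apply (Bialgebra.Quotient.mkBialgHom (R := k) Jp) a
  have hcard : c.neg.card + c.negᶜ.card = c.n := by
    rw [Finset.card_compl, Fintype.card_fin]
    have := c.neg.card_le_univ
    rw [Fintype.card_fin] at this
    omega
  have hcot : Module.finrank k (TruncPoly23.aug k P).Cotangent ≤ c.negᶜ.card := by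
    refine (HopfDim23.finrank_le_of_span _ (Set.toFinite (Ideal.Quotient.mk Jp '' (c.y '' (c.negᶜ : Finset (Fin c.n))))) ?_ ?_).trans ?_
    · intro z hz
      obtain ⟨a, rfl⟩ := Ideal.Quotient.mk_surjective z
      have ha : a ∈ aug k A := mem_aug.2 ((hεP a).symm.trans hz)
      obtain ⟨t, ht, hta⟩ := mem_sat.1 (exists_mul_mem_of_forall_pow (k := k) (c.ideal Finset.univ) a fun N => c.aug_le N ha)
      refine ⟨Ideal.Quotient.mk Jp t, fun h => ht (mem_aug.2 ((hεP t).symm.trans h)), ?_⟩
      rw [← map_mul]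
      have hle : c.ideal Finset.univ ≤ (Ideal.span (Ideal.Quotient.mk Jp '' (c.y '' (c.negᶜ : Finset (Fin c.n))))).comap
          (Ideal.Quotient.mk Jp) := by
        refine Ideal.span_le.2 ?_
        rintro _ ⟨i, -, rfl⟩
        show Ideal.Quotient.mk Jp (c.y i) ∈ Ideal.span _
        by_cases hi : i ∈ c.neg
        · rw [Ideal.Quotient.eq_zero_iff_mem.2 (c.y_mem_limIdeal hi)]
          exact zero_mem _
        · exact Ideal.subset_span ⟨_, ⟨i, Finset.mem_compl.2 hi, rfl⟩, rfl⟩
      exact hle hta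
    · rintro _ ⟨_, ⟨i, -, rfl⟩, rfl⟩
      exact (hεP (c.y i)).trans (c.mem i)
    · exact (Set.ncard_image_le (Set.toFinite _)).trans ((Set.ncard_image_le (Finset.finite_toSet _)).trans
        (Set.ncard_coe_finset _).le)
  have hsm : Algebra.FormallySmooth k P := by
    refine (HopfDim23.ringKrullDim_eq_iff k P).1 (le_antisymm (HopfDim23.ringKrullDim_le k P) ?_)
    refine le_trans ?_ (c.le_dim Jp c.neg c.limIdeal_le)
    exact_mod_cast (show Module.finrank k (TruncPoly23.aug k P).Cotangent ≤ c.n - c.neg.card by omega)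
  haveI : Algebra.Smooth k P := ⟨hsm, Algebra.FinitePresentation.of_finiteType.1 inferInstance⟩
  haveI := SmoothReg17.isRegularLocalRing_of_smooth (algebraMap k P) (RingHom.smooth_algebraMap.2 ‹_›)
    (TruncPoly23.aug k P)
  haveI := RegLoc.isDomain (Localization.AtPrime (TruncPoly23.aug k P))
  -- its identity component
  let J₀ : Ideal A := sat k Jp
  have hJ₀ : ∀ a, a ∈ J₀ ↔ algebraMap P (Localization.AtPrime (TruncPoly23.aug k P)) (Ideal.Quotient.mk Jp a) = 0 :=
    fun a => by
    rw [IsLocalization.map_eq_zero_iff (TruncPoly23.aug k P).primeCompl, mem_sat]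
    constructor
    · rintro ⟨t, ht, h⟩
      exact ⟨⟨Ideal.Quotient.mk Jp t, fun h' => ht (mem_aug.2 ((hεP t).symm.trans h'))⟩,
        (map_mul _ t a).symm.trans (Ideal.Quotient.eq_zero_iff_mem.2 h)⟩
    · rintro ⟨⟨z, hz⟩, h⟩
      obtain ⟨t, rfl⟩ := Ideal.Quotient.mk_surjective z
      exact ⟨t, fun h' => hz ((hεP t).trans h'), Ideal.Quotient.eq_zero_iff_mem.1 ((map_mul _ t a).trans h)⟩
  haveI : J₀.IsPrime := by
    refine ⟨(Ideal.ne_top_iff_one _).2 fun h => ?_, fun {a b} hab => ?_⟩
    · obtain ⟨t, ht, h'⟩ := mem_sat.1 h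
      rw [mul_one] at h'
      exact ht (hJp_aug h')
    · rw [hJ₀, map_mul, map_mul, mul_eq_zero] at hab
      exact hab.imp (hJ₀ a).2 (hJ₀ b).2
  haveI : Algebra.FiniteType k (A ⧸ J₀) :=
    Algebra.FiniteType.of_surjective (Ideal.Quotient.mkₐ k J₀) Ideal.Quotient.mk_surjective
  let fac : A ⧸ Jp →ₐ[k] A ⧸ J₀ := Ideal.Quotient.factorₐ k (le_sat Jp)
  haveI : J₀.IsHopfIdeal k := by
    let q₀ := Ideal.Quotient.mkₐ k J₀
    haveI := GeomIrr.isDomain_tensor (k := k) (A ⧸ J₀) (A ⧸ J₀)
    exact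
    { counit_eq_zero := fun x hx => by
        obtain ⟨t, ht, h⟩ := mem_sat.1 (show x ∈ J₀ from hx)
        have h' := mem_aug.1 (hJp_aug h)
        rw [Bialgebra.counit_mul] at h'
        exact (mul_eq_zero.1 h').resolve_left fun h0 => ht (mem_aug.2 h0)
      map_mkQ_comul_eq_zero := fun x hx => by
        obtain ⟨t, ht, h⟩ := mem_sat.1 (show x ∈ J₀ from hx)
        have h0 : Algebra.TensorProduct.map q₀ q₀ (Bialgebra.comulAlgHom k A (t * x)) = 0 := by
          have e : Algebra.TensorProduct.map q₀ q₀ = (Algebra.TensorProduct.map fac fac).comp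
              (Algebra.TensorProduct.map (Ideal.Quotient.mkₐ k Jp) (Ideal.Quotient.mkₐ k Jp)) :=
            Algebra.TensorProduct.ext' fun a b => rfl
          have hz : Algebra.TensorProduct.map (Ideal.Quotient.mkₐ k Jp) (Ideal.Quotient.mkₐ k Jp)
              (Bialgebra.comulAlgHom k A (t * x)) = 0 :=
            Submodule.IsCoideal.map_mkQ_comul_eq_zero (R := k) (I := Jp.restrictScalars k) h
          rw [e, AlgHom.comp_apply, hz, map_zero]
        rw [map_mul, map_mul, mul_eq_zero] at h0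
        refine (h0.resolve_left fun h1 => ht ?_ :)
        let ev : (A ⧸ J₀) ⊗[k] (A ⧸ J₀) →ₐ[k] k :=
          let e₀ : A ⧸ J₀ →ₐ[k] k := Ideal.Quotient.liftₐ J₀ (Bialgebra.counitAlgHom k A) fun a ha => by
            obtain ⟨s, hs, h'⟩ := mem_sat.1 ha
            have h'' := mem_aug.1 (hJp_aug h')
            rw [Bialgebra.counit_mul] at h''
            exact (mul_eq_zero.1 h'').resolve_left fun h0 => hs (mem_aug.2 h0)
          (Algebra.TensorProduct.lmul' k).comp (Algebra.TensorProduct.map e₀ e₀)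
        have h2 : counit (R := k) t = ev (Algebra.TensorProduct.map q₀ q₀ (Bialgebra.comulAlgHom k A t)) := by
          have h3 := AlgHom.congr_fun (congrArg WithConv.ofConv
            (one_mul (1 : WithConv (A →ₐ[k] k)))) t
          rw [AlgHom.convMul_apply] at h3
          refine Eq.trans ?_ (Eq.trans h3.symm ?_)
          · rfl
          · rw [Bialgebra.comulAlgHom_apply]
            induction comul (R := k) t with
            | zero => simp
            | add a b ha hb => simp only [map_add, ha, hb]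
            | tmul a b => rfl
        rw [h1, map_zero] at h2
        exact mem_aug.2 h2
      antipode_mem := fun x hx => by
        obtain ⟨t, ht, h⟩ := mem_sat.1 (show x ∈ J₀ from hx)
        refine mem_sat.2 ⟨HopfAlgebra.antipode k t, fun h' => ht ?_, ?_⟩
        · rw [mem_aug, HopfAlgebra.counit_antipode] at h'
          exact mem_aug.2 h'
        · have := Ideal.IsHopfIdeal.antipode_mem (R := k) (I := Jp) h
          rwa [show HopfAlgebra.antipode k (t * x) = HopfAlgebra.antipode k t * HopfAlgebra.antipode k x from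
            map_mul (HopfAlgebra.antipodeAlgHom k A) t x] at this }
  -- dimension of the identity component
  have hP₀ : VarDim.tdeg k (A ⧸ J₀) = c.negᶜ.card := by
    have h1 := c.le_dim J₀ c.neg (sat_le_of_le_sat c.limIdeal_le)
    have h2 : ringKrullDim (A ⧸ J₀) ≤ ringKrullDim P :=
      ringKrullDim_le_of_surjective fac.toRingHom (Ideal.Quotient.factor_surjective (le_sat Jp))
    have h3 := HopfDim23.ringKrullDim_le k P
    rw [VarDim.ringKrullDim_eq_tdeg k (A ⧸ J₀)] at h1 h2
    have h4 : c.n - c.neg.card ≤ VarDim.tdeg k (A ⧸ J₀) := by exact_mod_cast h1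
    have h5 : (Module.finrank k (TruncPoly23.aug k P).Cotangent : WithBot ℕ∞) = ringKrullDim P :=
      ((HopfDim23.ringKrullDim_eq_iff k P).2 hsm).symm
    have hle : Module.finrank k (TruncPoly23.aug k P).Cotangent ≤ c.negᶜ.card := hcot
    have h6 := h2.trans h5.ge
    have h7 : VarDim.tdeg k (A ⧸ J₀) ≤ Module.finrank k (TruncPoly23.aug k P).Cotangent := by exact_mod_cast h6
    omega
  have hne : c.neg.Nonempty := by
    obtain ⟨a, n, hn, han⟩ := hlam
    by_contra hT
    rw [Finset.not_nonempty_iff_eq_empty] at hT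
    obtain ⟨t, ht, h⟩ := mem_sat.1 (c.limIdeal_le (mem_limIdeal lam hn a))
    rw [hT, Coord.ideal, Finset.coe_empty, Set.image_empty, Ideal.span_empty, Ideal.mem_bot, mul_eq_zero] at h
    exact han (h.resolve_left fun h0 => ht (h0 ▸ zero_mem _))
  refine ⟨A ⧸ J₀, inferInstance, inferInstance, inferInstance, inferInstance, ?_, fun hrat => ?_⟩
  · rw [hP₀, c.tdeg_eq]
    have := hne.card_pos
    omega
  -- the contracted subgroup is an affine space
  let r := c.neg.card
  let e := c.neg.equivFin.symm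
  let φ : MvPolynomial (Fin r) k →ₐ[k] A ⧸ Jm := MvPolynomial.aeval fun i => Ideal.Quotient.mk Jm (c.y (e i).1)
  have hφs : Function.Surjective φ := by
    rw [← AlgHom.range_eq_top, ← Algebra.adjoin_range_eq_range_aeval, ← c.adjoin_eq_top]
    congr 1
    ext z
    constructor
    · rintro ⟨i, rfl⟩; exact ⟨_, ⟨_, (e i).2, rfl⟩, rfl⟩
    · rintro ⟨_, ⟨i, hi, rfl⟩, rfl⟩; exact ⟨e.symm ⟨i, hi⟩, by simp [Jm]⟩
  have hφi : Function.Injective φ := by
    refine (RingHom.injective_iff_ker_eq_bot φ.toRingHom).2 (by_contra fun hker => ?_)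
    obtain ⟨f, hf, hf0⟩ := Submodule.exists_mem_ne_zero_of_ne_bot hker
    have h1 := c.le_dim Jm c.negᶜ c.oneIdeal_le
    have h2 := ringKrullDim_quotient_succ_le_of_nonZeroDivisor (mem_nonZeroDivisors_of_ne_zero hf0)
    let g : MvPolynomial (Fin r) k ⧸ Ideal.span {f} →+* A ⧸ Jm :=
      Ideal.Quotient.lift _ φ.toRingHom fun x hx => (Ideal.span_le.2 (by simpa using hf) : Ideal.span {f} ≤ RingHom.ker φ.toRingHom) hx
    have h3 : ringKrullDim (A ⧸ Jm) ≤ ringKrullDim (MvPolynomial (Fin r) k ⧸ Ideal.span {f}) :=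
      ringKrullDim_le_of_surjective g (Ideal.Quotient.lift_surjective_of_surjective _ _ hφs)
    have h4 : ringKrullDim (MvPolynomial (Fin r) k) = (r : WithBot ℕ∞) := VarDim.ringKrullDim_mvPolynomial k r
    rw [h4] at h2
    have h5 : ((c.n - c.negᶜ.card : ℕ) : WithBot ℕ∞) + 1 ≤ (r : WithBot ℕ∞) :=
      (add_le_add (h1.trans h3) le_rfl).trans h2
    have h6 : c.n - c.negᶜ.card + 1 ≤ r := by exact_mod_cast h5
    omega
  let φe : MvPolynomial (Fin r) k ≃ₐ[k] A ⧸ Jm := AlgEquiv.ofBijective φ ⟨hφi, hφs⟩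
  let qU : A →ₐ[k] MvPolynomial (Fin r) k := φe.symm.toAlgHom.comp (Ideal.Quotient.mkₐ k Jm)
  have hqU : Function.Surjective qU := φe.symm.surjective.comp Ideal.Quotient.mk_surjective
  let qP : A →ₐ[k] A ⧸ J₀ := Ideal.Quotient.mkₐ k J₀
  haveI := GeomIrr.isDomain_tensor (k := k) (MvPolynomial (Fin r) k) (A ⧸ J₀)
  haveI := finiteType_tensor (k := k) (MvPolynomial (Fin r) k) (A ⧸ J₀)
  let μ : A →ₐ[k] MvPolynomial (Fin r) k ⊗[k] (A ⧸ J₀) :=
    (Algebra.TensorProduct.map qU qP).comp (Bialgebra.comulAlgHom k A)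
  have hμ : IsEpiMap μ := by
    intro C _ _ f g hfg
    let u : (MvPolynomial (Fin r) k ⊗[k] (A ⧸ J₀) →ₐ[k] C) → WithConv (A →ₐ[k] C) := fun f =>
      toConv ((f.comp Algebra.TensorProduct.includeLeft).comp qU)
    let v : (MvPolynomial (Fin r) k ⊗[k] (A ⧸ J₀) →ₐ[k] C) → WithConv (A →ₐ[k] C) := fun f =>
      toConv ((f.comp Algebra.TensorProduct.includeRight).comp qP)
    have hprod : ∀ f, toConv (f.comp μ) = u f * v f := fun f => by
      refine WithConv.ofConv_injective (AlgHom.ext fun a => ?_)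
      rw [AlgHom.convMul_apply]
      show f (Algebra.TensorProduct.map qU qP (comul (R := k) a)) = _
      induction comul (R := k) a with
      | zero => simp
      | add a b ha hb => simp only [map_add, ha, hb]
      | tmul a b =>
        rw [Algebra.TensorProduct.map_tmul, show qU a ⊗ₜ[k] qP b = (qU a ⊗ₜ[k] (1 : A ⧸ J₀)) * ((1 : MvPolynomial (Fin r) k) ⊗ₜ[k] qP b) by
          rw [Algebra.TensorProduct.tmul_mul_tmul, mul_one, one_mul], map_mul]
        simp [u, v]
    have hu : ∀ f, u f ∈ DynLim23.oneGrp (lamNeg lam) C := fun f => by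
      rw [DynLim23.mem_oneGrp]
      refine (DynLim23.represents_oneIdeal (lamNeg lam) C _).1 fun a ha => ?_
      show f ((Algebra.TensorProduct.includeLeft : MvPolynomial (Fin r) k →ₐ[k] MvPolynomial (Fin r) k ⊗[k] (A ⧸ J₀)) (φe.symm (Ideal.Quotient.mk Jm a))) = 0
      rw [Ideal.Quotient.eq_zero_iff_mem.2 ha, map_zero, map_zero, map_zero]
    have hv : ∀ f, v f ∈ DynLim23.limGrp lam C := fun f => by
      rw [DynLim23.mem_limGrp]
      refine (DynLim23.represents_limIdeal lam C _).1 fun a ha => ?_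
      show f (Algebra.TensorProduct.includeRight (Ideal.Quotient.mk J₀ a)) = 0
      rw [Ideal.Quotient.eq_zero_iff_mem.2 (le_sat Jp ha), map_zero, map_zero]
    have he : u f * v f = u g * v g := by rw [← hprod, ← hprod, hfg]
    have hx : (u g)⁻¹ * u f = v g * (v f)⁻¹ := by
      rw [eq_mul_inv_iff_mul_eq, mul_assoc, he, inv_mul_cancel_left]
    have h1 := eq_one_of_mem lam (mul_mem (inv_mem (hu g)) (hu f)) (hx ▸ mul_mem (hv g) (inv_mem (hv f)))
    have hu' : u f = u g := (inv_mul_eq_one.1 h1).symm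
    have hv' : v f = v g := mul_left_cancel (a := u g) (by rw [← he, hu'])
    refine Algebra.TensorProduct.ext (AlgHom.ext fun z => ?_) (AlgHom.ext fun z => ?_)
    · obtain ⟨a, rfl⟩ := hqU z
      exact AlgHom.congr_fun (congrArg WithConv.ofConv hu') a
    · obtain ⟨a, rfl⟩ := Ideal.Quotient.mk_surjective z
      exact AlgHom.congr_fun (congrArg WithConv.ofConv hv') a
  have hμi : Function.Injective μ := by
    let K := RingHom.ker μ.toRingHom
    haveI : K.IsPrime := RingHom.ker_isPrime _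
    let μ' : A ⧸ K →ₐ[k] MvPolynomial (Fin r) k ⊗[k] (A ⧸ J₀) := Ideal.Quotient.liftₐ K μ fun _ h => h
    have hμ'i : Function.Injective μ' := RingHom.lift_injective_of_ker_le_ideal _ _ le_rfl
    have hμ'e : IsEpiMap μ' := fun C _ _ f g h => hμ C f g (AlgHom.ext fun a =>
      AlgHom.congr_fun h (Ideal.Quotient.mk K a))
    haveI : Algebra.FiniteType k (A ⧸ K) :=
      Algebra.FiniteType.of_surjective (Ideal.Quotient.mkₐ k K) Ideal.Quotient.mk_surjective
    obtain ⟨ef⟩ := fractionEquiv_of_epi μ' hμ'i hμ'e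
    have h1 : VarDim.tdeg k (A ⧸ K) = c.n := by
      rw [tdeg_congr ef]
      have eB : MvPolynomial (Fin r) k ⊗[k] (A ⧸ J₀) ≃ₐ[k] MvPolynomial (Fin r) (A ⧸ J₀) :=
        (Algebra.TensorProduct.comm k _ _).trans ((MvPolynomial.algebraTensorAlgEquiv (σ := Fin r) k (A ⧸ J₀)).restrictScalars k)
      have h2 : Algebra.trdeg k (MvPolynomial (Fin r) k ⊗[k] (A ⧸ J₀)) = Algebra.trdeg k (A ⧸ J₀) + r := by
        rw [eB.trdeg_eq, ← trdeg_add_eq k (A ⧸ J₀) (A := MvPolynomial (Fin r) (A ⧸ J₀)), MvPolynomial.trdeg_of_isDomain]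
        simp
      rw [VarDim.trdeg_eq_tdeg, VarDim.trdeg_eq_tdeg, hP₀] at h2
      have h3 : VarDim.tdeg k (MvPolynomial (Fin r) k ⊗[k] (A ⧸ J₀)) = c.negᶜ.card + r := by exact_mod_cast h2
      omega
    have key := VarDim.height_add_coheight_nat k A ⟨K, inferInstance⟩
    rw [← PrimeSpectrum.height_eq_orderHeight, VarDim.coheight_eq_tdeg k A, c.tdeg_eq] at key
    change K.height + (VarDim.tdeg k (A ⧸ K) : ℕ∞) = (c.n : ℕ∞) at key
    rw [h1] at key
    have hK : K.height = 0 := by
      by_contra h0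
      have : (1 : ℕ∞) + c.n ≤ c.n := (add_le_add (Order.one_le_iff_pos.2 (pos_iff_ne_zero.2 h0)) le_rfl).trans key.le
      have : 1 + c.n ≤ c.n := by exact_mod_cast this
      omega
    exact (RingHom.injective_iff_ker_eq_bot μ.toRingHom).2 (Ideal.height_eq_zero_iff_eq_bot.1 hK)
  exact ((isRat_polynomialFin (k := k) r).tensor hrat).of_epi μ hμi hμ

end main

end Groth.Agent.RatGrp14
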