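import Groth.Agent.Lib.GeomIrr18.Alg
import Mathlib.RingTheory.Localization.FractionRing
import Mathlib.RingTheory.TensorProduct.MvPolynomial
import Mathlib.RingTheory.Localization.Away.Basic

/-!
# Rationality of finitely generated domains

`exists_div_of_epi`: an injective epimorphism of domains is birational; `IsRat`: the fraction field is purely
transcendental; stability under tensor products and polynomial rings; `exists_away_equiv`: spreading out.
-/

set_option autoImplicit false
set_option backward.isDefEq.respectTransparency.types false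

universe u

open TensorProduct

noncomputable section

namespace Groth.Agent.RatGrp14

variable {k : Type u} [Field k]

/-- Two maps out of the target agreeing on the source agree. -/
def IsEpiMap {A B : Type u} [CommRing A] [CommRing B] [Algebra k A] [Algebra k B] (φ : A →ₐ[k] B) : Prop :=
  ∀ (C : Type u) [CommRing C] [Algebra k C] (f g : B →ₐ[k] C), f.comp φ = g.comp φ → f = g

section birational

variable {A B : Type u} [CommRing A] [CommRing B] [IsDomain A] [IsDomain B] [Algebra k A] [Algebra k B]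

/-- The target of an injective epimorphism of domains consists of fractions of the source. -/
theorem exists_div_of_epi (φ : A →ₐ[k] B) (hinj : Function.Injective φ) (he : IsEpiMap φ) (b : B) :
    ∃ a s : A, φ s ≠ 0 ∧ b * φ s = φ a := by
  have hg : Function.Injective ((algebraMap B (FractionRing B)).comp φ.toRingHom) :=
    (IsFractionRing.injective B (FractionRing B)).comp hinj
  let m : FractionRing A →+* FractionRing B := IsFractionRing.lift hg
  letI : Algebra (FractionRing A) (FractionRing B) := m.toAlgebra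
  haveI : IsScalarTower k (FractionRing A) (FractionRing B) := IsScalarTower.of_algebraMap_eq fun c => by
    show algebraMap k (FractionRing B) c = m (algebraMap k (FractionRing A) c)
    rw [IsScalarTower.algebraMap_apply k A (FractionRing A), show m (algebraMap A (FractionRing A) (algebraMap k A c)) =
      algebraMap B (FractionRing B) (φ (algebraMap k A c)) from IsFractionRing.lift_algebraMap hg _, φ.commutes,
      ← IsScalarTower.algebraMap_apply k B (FractionRing B)]
  let L := FractionRing B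
  let iB : B →ₐ[k] L := IsScalarTower.toAlgHom k B L
  let f : B →ₐ[k] L ⊗[FractionRing A] L :=
    ((Algebra.TensorProduct.includeLeft : L →ₐ[FractionRing A] L ⊗[FractionRing A] L).restrictScalars k).comp iB
  let g : B →ₐ[k] L ⊗[FractionRing A] L :=
    ((Algebra.TensorProduct.includeRight : L →ₐ[FractionRing A] L ⊗[FractionRing A] L).restrictScalars k).comp iB
  have hfg : f = g := he _ f g <| AlgHom.ext fun a => by
    show (algebraMap B L (φ a)) ⊗ₜ[FractionRing A] (1 : L) = (1 : L) ⊗ₜ[FractionRing A] (algebraMap B L (φ a))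
    rw [show algebraMap B L (φ a) = algebraMap (FractionRing A) L (algebraMap A (FractionRing A) a) from
      (IsFractionRing.lift_algebraMap hg a).symm, Algebra.algebraMap_eq_smul_one, TensorProduct.smul_tmul]
  have hb : algebraMap B L b ∈ Set.range (algebraMap (FractionRing A) L) := by
    by_contra hb
    have hnot : algebraMap B L b ∉ Submodule.span (FractionRing A) {(1 : L)} := fun h => by
      obtain ⟨c, hc⟩ := Submodule.mem_span_singleton.1 h
      exact hb ⟨c, by rw [← hc, Algebra.algebraMap_eq_smul_one]⟩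
    obtain ⟨ℓ, hℓ1, hℓ0⟩ := Submodule.exists_dual_map_eq_bot_of_notMem hnot inferInstance
    have h1 : ℓ (1 : L) = 0 := by
      have : ℓ (1 : L) ∈ (Submodule.span (FractionRing A) {(1 : L)}).map ℓ :=
        Submodule.mem_map_of_mem (Submodule.mem_span_singleton_self _)
      rwa [hℓ0, Submodule.mem_bot] at this
    have h := congrArg ((TensorProduct.lid (FractionRing A) L).toLinearMap ∘ₗ LinearMap.rTensor L ℓ)
      (AlgHom.congr_fun hfg b)
    have e1 : f b = (algebraMap B L b) ⊗ₜ[FractionRing A] (1 : L) := rfl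
    have e2 : g b = (1 : L) ⊗ₜ[FractionRing A] (algebraMap B L b) := rfl
    rw [e1, e2] at h
    simp only [LinearMap.comp_apply, LinearMap.rTensor_tmul, h1, zero_tmul, map_zero, LinearEquiv.coe_coe,
      TensorProduct.lid_tmul] at h
    rw [smul_eq_zero] at h
    exact h.elim hℓ1 one_ne_zero
  obtain ⟨x, hx⟩ := hb
  obtain ⟨a, s, hs, rfl⟩ := IsFractionRing.div_surjective A x
  refine ⟨a, s, (map_ne_zero_iff φ hinj).2 (nonZeroDivisors.ne_zero hs), IsFractionRing.injective B L ?_⟩
  rw [map_mul, ← hx, show algebraMap (FractionRing A) L = m from rfl, map_div₀,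
    show m (algebraMap A (FractionRing A) a) = algebraMap B L (φ a) from IsFractionRing.lift_algebraMap hg a,
    show m (algebraMap A (FractionRing A) s) = algebraMap B L (φ s) from IsFractionRing.lift_algebraMap hg s]
  exact div_mul_cancel₀ _ ((map_ne_zero_iff _ (IsFractionRing.injective B L)).2
    ((map_ne_zero_iff φ hinj).2 (nonZeroDivisors.ne_zero hs)))

/-- A homomorphism whose target consists of fractions of the source identifies the fraction fields. -/
theorem fractionEquiv_of_div (φ : A →ₐ[k] B) (hinj : Function.Injective φ)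
    (hdiv : ∀ b : B, ∃ a s : A, φ s ≠ 0 ∧ b * φ s = φ a) :
    Nonempty (FractionRing A ≃ₐ[k] FractionRing B) := by
  have hg : Function.Injective ((IsScalarTower.toAlgHom k B (FractionRing B)).comp φ) :=
    (IsFractionRing.injective B (FractionRing B)).comp hinj
  let m : FractionRing A →ₐ[k] FractionRing B := IsFractionRing.liftAlgHom hg
  have hm : ∀ a, m (algebraMap A (FractionRing A) a) = algebraMap B (FractionRing B) (φ a) :=
    fun a => IsFractionRing.lift_algebraMap hg a
  refine ⟨AlgEquiv.ofBijective m ⟨m.toRingHom.injective, fun z => ?_⟩⟩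
  have key : ∀ b : B, ∃ x, m x = algebraMap B (FractionRing B) b := fun b => by
    obtain ⟨a, s, hs, h⟩ := hdiv b
    refine ⟨algebraMap A _ a / algebraMap A _ s, ?_⟩
    rw [map_div₀, hm, hm, ← h, map_mul, mul_div_cancel_right₀]
    exact (map_ne_zero_iff _ (IsFractionRing.injective B (FractionRing B))).2 hs
  obtain ⟨b, c, -, rfl⟩ := IsFractionRing.div_surjective B z
  obtain ⟨x, hx⟩ := key b
  obtain ⟨y, hy⟩ := key c
  exact ⟨x / y, by rw [map_div₀, hx, hy]⟩

theorem fractionEquiv_of_epi (φ : A →ₐ[k] B) (hinj : Function.Injective φ) (he : IsEpiMap φ) :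
    Nonempty (FractionRing A ≃ₐ[k] FractionRing B) :=
  fractionEquiv_of_div φ hinj (exists_div_of_epi φ hinj he)

theorem isEpiMap_fractionRing : IsEpiMap (IsScalarTower.toAlgHom k A (FractionRing A)) := fun C _ _ f g h => by
  refine AlgHom.coe_ringHom_injective (IsLocalization.ringHom_ext (nonZeroDivisors A) ?_)
  exact RingHom.ext fun a => AlgHom.congr_fun h a

theorem IsEpiMap.tensor {A' B' : Type u} [CommRing A'] [CommRing B'] [Algebra k A'] [Algebra k B'] {φ : A →ₐ[k] A'}
    {ψ : B →ₐ[k] B'} (hφ : IsEpiMap φ) (hψ : IsEpiMap ψ) : IsEpiMap (Algebra.TensorProduct.map φ ψ) :=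
  fun C _ _ f g h => Algebra.TensorProduct.ext
    (hφ C _ _ (AlgHom.ext fun a => by
      have := AlgHom.congr_fun h (a ⊗ₜ 1)
      simpa using this))
    (hψ C _ _ (AlgHom.ext fun b => by
      have := AlgHom.congr_fun h (1 ⊗ₜ b)
      simpa using this))

end birational

variable (k) in
/-- The fraction field is purely transcendental. -/
def IsRat (A : Type u) [CommRing A] [IsDomain A] [Algebra k A] : Prop :=
  ∃ n : ℕ, Nonempty (FractionRing A ≃ₐ[k] FractionRing (MvPolynomial (Fin n) k))

section isRat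

variable {A B : Type u} [CommRing A] [CommRing B] [IsDomain A] [IsDomain B] [Algebra k A] [Algebra k B]

theorem IsRat.of_fractionEquiv (h : IsRat k B) (e : FractionRing A ≃ₐ[k] FractionRing B) : IsRat k A := by
  obtain ⟨n, ⟨e'⟩⟩ := h
  exact ⟨n, ⟨e.trans e'⟩⟩

theorem IsRat.of_algEquiv (h : IsRat k B) (e : A ≃ₐ[k] B) : IsRat k A :=
  h.of_fractionEquiv (IsFractionRing.algEquivOfAlgEquiv e)

theorem IsRat.of_epi (h : IsRat k B) (φ : A →ₐ[k] B) (hinj : Function.Injective φ) (he : IsEpiMap φ) : IsRat k A :=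
  h.of_fractionEquiv (fractionEquiv_of_epi φ hinj he).some

theorem isRat_mvPolynomial (σ : Type u) [Finite σ] : IsRat k (MvPolynomial σ k) := by
  obtain ⟨n, ⟨e⟩⟩ := Finite.exists_equiv_fin σ
  exact ⟨n, ⟨IsFractionRing.algEquivOfAlgEquiv (MvPolynomial.renameEquiv k e)⟩⟩

theorem isRat_polynomialFin (n : ℕ) : IsRat k (MvPolynomial (Fin n) k) := ⟨n, ⟨AlgEquiv.refl⟩⟩

theorem isRat_fractionRing_iff : IsRat k (FractionRing A) ↔ IsRat k A := by
  obtain ⟨e⟩ := fractionEquiv_of_epi (IsScalarTower.toAlgHom k A (FractionRing A))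
    (IsFractionRing.injective A _) (isEpiMap_fractionRing (k := k) (A := A))
  exact ⟨fun h => h.of_fractionEquiv e, fun h => h.of_fractionEquiv e.symm⟩

/-- Rationality is inherited by tensor products. -/
theorem IsRat.tensor [IsAlgClosed k] (hA : IsRat k A) (hB : IsRat k B) :
    haveI := GeomIrr.isDomain_tensor (k := k) A B
    IsRat k (A ⊗[k] B) := by
  haveI := GeomIrr.isDomain_tensor (k := k) A B
  obtain ⟨n, ⟨eA⟩⟩ := hA
  obtain ⟨m, ⟨eB⟩⟩ := hB
  haveI := GeomIrr.isDomain_tensor (k := k) (FractionRing A) (FractionRing B)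
  haveI := GeomIrr.isDomain_tensor (k := k) (MvPolynomial (Fin n) k) (MvPolynomial (Fin m) k)
  haveI := GeomIrr.isDomain_tensor (k := k) (FractionRing (MvPolynomial (Fin n) k)) (FractionRing (MvPolynomial (Fin m) k))
  obtain ⟨e1⟩ := fractionEquiv_of_epi
    (Algebra.TensorProduct.map (IsScalarTower.toAlgHom k A (FractionRing A)) (IsScalarTower.toAlgHom k B (FractionRing B)))
    (TensorProduct.map_injective_of_flat_flat _ _ (IsFractionRing.injective A _) (IsFractionRing.injective B _))
    (isEpiMap_fractionRing.tensor isEpiMap_fractionRing)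
  obtain ⟨e2⟩ := fractionEquiv_of_epi
    (Algebra.TensorProduct.map (IsScalarTower.toAlgHom k (MvPolynomial (Fin n) k) (FractionRing (MvPolynomial (Fin n) k)))
      (IsScalarTower.toAlgHom k (MvPolynomial (Fin m) k) (FractionRing (MvPolynomial (Fin m) k))))
    (TensorProduct.map_injective_of_flat_flat _ _ (IsFractionRing.injective _ _) (IsFractionRing.injective _ _))
    (isEpiMap_fractionRing.tensor isEpiMap_fractionRing)
  exact ⟨n + m, ⟨e1.trans ((IsFractionRing.algEquivOfAlgEquiv (Algebra.TensorProduct.congr eA eB)).trans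
    (e2.symm.trans (IsFractionRing.algEquivOfAlgEquiv ((MvPolynomial.tensorEquivSum k (Fin n) (Fin m) k).trans
      (MvPolynomial.renameEquiv k finSumFinEquiv)))))⟩⟩

/-- An algebra which becomes a polynomial ring in one variable over a rational subalgebra is rational. -/
theorem IsRat.polynomial [IsAlgClosed k] (hA : IsRat k A) : IsRat k (Polynomial A) := by
  haveI := GeomIrr.isDomain_tensor (k := k) A (MvPolynomial (Fin 1) k)
  refine (hA.tensor (isRat_polynomialFin (k := k) 1)).of_algEquiv ?_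
  exact (((MvPolynomial.algebraTensorAlgEquiv (σ := Fin 1) k A).trans
    (MvPolynomial.renameEquiv A finOneEquiv)).trans (MvPolynomial.pUnitAlgEquiv A)).restrictScalars k |>.symm

end isRat

section spread

variable {A B K : Type u} [CommRing A] [CommRing B] [Field K] [Algebra k A] [Algebra k B] [Algebra k K]

/-- Numerators over a power of a fixed element. -/
theorem exists_pow_mul_eq (f : A →ₐ[k] K) (g : B →ₐ[k] K) [Algebra.FiniteType k B]
    (hfrac : ∀ z : K, ∃ a s : A, f s ≠ 0 ∧ z = f a / f s) :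
    ∃ s : A, f s ≠ 0 ∧ ∀ b : B, ∃ (n : ℕ) (a : A), g b * f s ^ n = f a := by
  classical
  obtain ⟨T, hT⟩ := Algebra.FiniteType.out (R := k) (A := B)
  choose a s hs ha using fun t : B => hfrac (g t)
  refine ⟨∏ t ∈ T, s t, by rw [map_prod]; exact Finset.prod_ne_zero_iff.2 fun t _ => hs t, fun b => ?_⟩
  have hb : b ∈ Algebra.adjoin k (T : Set B) := hT ▸ trivial
  induction hb using Algebra.adjoin_induction with
  | mem t ht =>
    refine ⟨1, a t * ∏ t' ∈ T.erase t, s t', ?_⟩
    rw [pow_one, ← Finset.mul_prod_erase T s ht, map_mul, map_mul, ha, ← mul_assoc, div_mul_cancel₀ _ (hs t)]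
  | algebraMap r => exact ⟨0, algebraMap k A r, by simp⟩
  | add x y _ _ hx hy =>
    obtain ⟨n, a₁, h₁⟩ := hx
    obtain ⟨m, a₂, h₂⟩ := hy
    exact ⟨n + m, a₁ * (∏ t ∈ T, s t) ^ m + a₂ * (∏ t ∈ T, s t) ^ n, by
      rw [map_add, map_add, map_mul, map_mul, ← h₁, ← h₂, map_pow, map_pow]; ring⟩
  | mul x y _ _ hx hy =>
    obtain ⟨n, a₁, h₁⟩ := hx
    obtain ⟨m, a₂, h₂⟩ := hy
    exact ⟨n + m, a₁ * a₂, by rw [map_mul, map_mul, ← h₁, ← h₂]; ring⟩

/-- Two finitely generated models of a field have isomorphic open pieces. -/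
theorem exists_away_equiv [IsDomain A] [IsDomain B] [Algebra.FiniteType k A] [Algebra.FiniteType k B]
    (e : FractionRing A ≃ₐ[k] FractionRing B) :
    ∃ (x : A) (y : B), x ≠ 0 ∧ y ≠ 0 ∧ Nonempty (Localization.Away x ≃ₐ[k] Localization.Away y) := by
  let f : A →ₐ[k] FractionRing B := (e : FractionRing A →ₐ[k] FractionRing B).comp (IsScalarTower.toAlgHom k A _)
  let g : B →ₐ[k] FractionRing B := IsScalarTower.toAlgHom k B _
  have hfi : Function.Injective f := e.injective.comp (IsFractionRing.injective A _)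
  have hgi : Function.Injective g := IsFractionRing.injective B _
  have hfA : ∀ z, ∃ a s : A, f s ≠ 0 ∧ z = f a / f s := fun z => by
    obtain ⟨a, s, hs, h⟩ := IsFractionRing.div_surjective A (e.symm z)
    refine ⟨a, s, (map_ne_zero_iff f hfi).2 (nonZeroDivisors.ne_zero hs), ?_⟩
    show z = e _ / e _
    rw [← map_div₀]
    exact (e.apply_symm_apply z).symm.trans (congrArg e h.symm)
  have hgB : ∀ z, ∃ b t : B, g t ≠ 0 ∧ z = g b / g t := fun z => by
    obtain ⟨b, t, ht, h⟩ := IsFractionRing.div_surjective B z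
    exact ⟨b, t, (map_ne_zero_iff g hgi).2 (nonZeroDivisors.ne_zero ht), h.symm⟩
  obtain ⟨s, hs, hsB⟩ := exists_pow_mul_eq f g hfA
  obtain ⟨t, ht, htA⟩ := exists_pow_mul_eq g f hgB
  obtain ⟨n, t', ht'⟩ := hsB t
  obtain ⟨m, s', hs'⟩ := htA s
  have ht'0 : f t' ≠ 0 := ht' ▸ mul_ne_zero ht (pow_ne_zero _ hs)
  have hs'0 : g s' ≠ 0 := hs' ▸ mul_ne_zero hs (pow_ne_zero _ ht)
  have hx : f (s * t') ≠ 0 := by rw [map_mul]; exact mul_ne_zero hs ht'0
  have hy : g (t * s') ≠ 0 := by rw [map_mul]; exact mul_ne_zero ht hs'0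
  let F : Localization.Away (s * t') →ₐ[k] FractionRing B :=
    IsLocalization.liftAlgHom (M := Submonoid.powers (s * t')) (f := f)
      (by rintro ⟨_, l, rfl⟩; exact isUnit_iff_ne_zero.2 (by rw [map_pow]; exact pow_ne_zero _ hx))
  let G : Localization.Away (t * s') →ₐ[k] FractionRing B :=
    IsLocalization.liftAlgHom (M := Submonoid.powers (t * s')) (f := g)
      (by rintro ⟨_, l, rfl⟩; exact isUnit_iff_ne_zero.2 (by rw [map_pow]; exact pow_ne_zero _ hy))
  have hFa : ∀ a, F (algebraMap A _ a) = f a := fun a => IsLocalization.lift_eq _ a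
  have hGb : ∀ b, G (algebraMap B _ b) = g b := fun b => IsLocalization.lift_eq _ b
  have hFinj : Function.Injective F := (IsLocalization.lift_injective_iff _).2 fun a a' => by
    refine ⟨fun h => ?_, fun h => congrArg (algebraMap A _) (hfi h)⟩
    show f a = f a'
    rw [← hFa, ← hFa, h]
  have hGinj : Function.Injective G := (IsLocalization.lift_injective_iff _).2 fun a a' => by
    refine ⟨fun h => ?_, fun h => congrArg (algebraMap B _) (hgi h)⟩
    show g a = g a'
    rw [← hGb, ← hGb, h]
  have invF : (f (s * t'))⁻¹ ∈ F.range := ⟨IsLocalization.mk' _ 1 (⟨s * t', Submonoid.mem_powers _⟩ : Submonoid.powers (s * t')), by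
    refine eq_inv_of_mul_eq_one_left ?_
    show F _ * _ = 1
    rw [← hFa, ← map_mul, IsLocalization.mk'_spec, map_one, map_one]⟩
  have invG : (g (t * s'))⁻¹ ∈ G.range := ⟨IsLocalization.mk' _ 1 (⟨t * s', Submonoid.mem_powers _⟩ : Submonoid.powers (t * s')), by
    refine eq_inv_of_mul_eq_one_left ?_
    show G _ * _ = 1
    rw [← hGb, ← map_mul, IsLocalization.mk'_spec, map_one, map_one]⟩
  have gF : ∀ b, g b ∈ F.range := fun b => by
    obtain ⟨l, a, hl⟩ := hsB b
    rw [show g b = f (a * t' ^ l) * ((f (s * t'))⁻¹) ^ l by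
      rw [inv_pow, map_mul, map_pow, map_mul, ← hl, mul_pow, eq_mul_inv_iff_mul_eq₀
        (mul_ne_zero (pow_ne_zero _ hs) (pow_ne_zero _ ht'0))]
      ring]
    exact mul_mem ⟨_, hFa _⟩ (pow_mem invF l)
  have fG : ∀ a, f a ∈ G.range := fun a => by
    obtain ⟨l, b, hl⟩ := htA a
    rw [show f a = g (b * s' ^ l) * ((g (t * s'))⁻¹) ^ l by
      rw [inv_pow, map_mul, map_pow, map_mul, ← hl, mul_pow, eq_mul_inv_iff_mul_eq₀
        (mul_ne_zero (pow_ne_zero _ ht) (pow_ne_zero _ hs'0))]
      ring]
    exact mul_mem ⟨_, hGb _⟩ (pow_mem invG l)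
  have hrange : F.range = G.range := by
    refine le_antisymm ?_ ?_
    · rintro _ ⟨z, rfl⟩
      obtain ⟨a, ⟨_, l, rfl⟩, rfl⟩ := IsLocalization.exists_mk'_eq (Submonoid.powers (s * t')) z
      show F (IsLocalization.mk' _ a (⟨(s * t') ^ l, l, rfl⟩ : Submonoid.powers (s * t'))) ∈ G.range
      rw [show F (IsLocalization.mk' _ a (⟨(s * t') ^ l, l, rfl⟩ : Submonoid.powers (s * t'))) = f a * (g t * f s ^ (n + 1))⁻¹ ^ l by
        have e : F (IsLocalization.mk' _ a (⟨(s * t') ^ l, l, rfl⟩ : Submonoid.powers (s * t'))) * f (s * t') ^ l = f a := by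
          rw [← hFa (s * t'), ← map_pow, ← map_pow, ← map_mul, IsLocalization.mk'_spec, hFa]
        rw [show g t * f s ^ (n + 1) = f (s * t') by rw [map_mul, ← ht']; ring, inv_pow,
          eq_mul_inv_iff_mul_eq₀ (pow_ne_zero _ hx)]
        exact e]
      refine mul_mem (fG a) (pow_mem ?_ l)
      -- the inverse of `s` and of `t` lie in the range of `G`
      have hinvt : (g t)⁻¹ ∈ G.range := by
        rw [show (g t)⁻¹ = g s' * (g (t * s'))⁻¹ by rw [map_mul, mul_inv, ← mul_assoc, mul_comm (g s'), mul_assoc,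
          mul_inv_cancel₀ hs'0, mul_one]]
        exact mul_mem ⟨_, hGb _⟩ invG
      have hinvs' : (g s')⁻¹ ∈ G.range := by
        rw [show (g s')⁻¹ = g t * (g (t * s'))⁻¹ by rw [map_mul, mul_inv, ← mul_assoc, mul_inv_cancel₀ ht, one_mul]]
        exact mul_mem ⟨_, hGb _⟩ invG
      have hinvs : (f s)⁻¹ ∈ G.range := by
        rw [show (f s)⁻¹ = g t ^ m * (g s')⁻¹ by
          rw [← hs', mul_inv, mul_comm (f s)⁻¹, ← mul_assoc, mul_inv_cancel₀ (pow_ne_zero _ ht), one_mul]]
        exact mul_mem (pow_mem (⟨_, hGb _⟩ : g t ∈ G.range) m) hinvs'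
      rw [mul_inv, ← inv_pow]
      exact mul_mem hinvt (pow_mem hinvs _)
    · rintro _ ⟨z, rfl⟩
      obtain ⟨b, ⟨_, l, rfl⟩, rfl⟩ := IsLocalization.exists_mk'_eq (Submonoid.powers (t * s')) z
      show G (IsLocalization.mk' _ b (⟨(t * s') ^ l, l, rfl⟩ : Submonoid.powers (t * s'))) ∈ F.range
      rw [show G (IsLocalization.mk' _ b (⟨(t * s') ^ l, l, rfl⟩ : Submonoid.powers (t * s'))) = g b * (f s * g t ^ (m + 1))⁻¹ ^ l by
        have e : G (IsLocalization.mk' _ b (⟨(t * s') ^ l, l, rfl⟩ : Submonoid.powers (t * s'))) * g (t * s') ^ l = g b := by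
          rw [← hGb (t * s'), ← map_pow, ← map_pow, ← map_mul, IsLocalization.mk'_spec, hGb]
        rw [show f s * g t ^ (m + 1) = g (t * s') by rw [map_mul, ← hs']; ring, inv_pow,
          eq_mul_inv_iff_mul_eq₀ (pow_ne_zero _ hy)]
        exact e]
      refine mul_mem (gF b) (pow_mem ?_ l)
      have hinvs : (f s)⁻¹ ∈ F.range := by
        rw [show (f s)⁻¹ = f t' * (f (s * t'))⁻¹ by rw [map_mul, mul_inv, ← mul_assoc, mul_comm (f t'), mul_assoc,
          mul_inv_cancel₀ ht'0, mul_one]]
        exact mul_mem ⟨_, hFa _⟩ invF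
      have hinvt' : (f t')⁻¹ ∈ F.range := by
        rw [show (f t')⁻¹ = f s * (f (s * t'))⁻¹ by rw [map_mul, mul_inv, ← mul_assoc, mul_inv_cancel₀ hs, one_mul]]
        exact mul_mem ⟨_, hFa _⟩ invF
      have hinvt : (g t)⁻¹ ∈ F.range := by
        rw [show (g t)⁻¹ = f s ^ n * (f t')⁻¹ by
          rw [← ht', mul_inv, mul_comm (g t)⁻¹, ← mul_assoc, mul_inv_cancel₀ (pow_ne_zero _ hs), one_mul]]
        exact mul_mem (pow_mem (⟨_, hFa _⟩ : f s ∈ F.range) n) hinvt'
      rw [mul_inv, ← inv_pow]
      exact mul_mem hinvs (pow_mem hinvt _)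
  refine ⟨s * t', t * s', fun h => hx (by rw [h, map_zero]), fun h => hy (by rw [h, map_zero]), ⟨?_⟩⟩
  exact ((AlgEquiv.ofInjective F hFinj).trans (Subalgebra.equivOfEq _ _ hrange)).trans
    (AlgEquiv.ofInjective G hGinj).symm

end spread

end Groth.Agent.RatGrp14
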