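import Groth.Agent.Lib.RatGrp14.Rat
import Groth.Agent.Lib.DynLim23.Basic
import Groth.Agent.Lib.HopfPts19.Basic
import Groth.Agent.Lib.NormQuot20.Apps
import Groth.Agent.Lib.HopfFlat20.Main
import Mathlib.Algebra.Polynomial.Degree.Lemmas

/-!
# Slices of central additive subgroups

`IsCurve π`: a closed central additive one-parameter subgroup of an affine group in coordinates; `invariants`: its
invariant functions, a finitely generated Hopf subalgebra; `exists_slice`: a function shifted linearly along the curve;
`exists_quotient`: the group is birational to the quotient times a line.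
-/

set_option autoImplicit false
set_option linter.style.haveILetI false
set_option backward.isDefEq.respectTransparency.types false

universe u

open TensorProduct WithConv Coalgebra Polynomial

noncomputable section

namespace Groth.Agent.RatGrp14

variable {k : Type u} [Field k] {A : Type u} [CommRing A] [HopfAlgebra k A]

/-- The point of the curve with parameter `r`. -/
def cpt (π : A →ₐ[k] k[X]) {R : Type u} [CommRing R] [Algebra k R] (r : R) : WithConv (A →ₐ[k] R) :=
  toConv ((Polynomial.aeval r).comp π)

/-- A closed central additive one-parameter subgroup. -/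
structure IsCurve (π : A →ₐ[k] k[X]) : Prop where
  add : ∀ (R : Type u) [CommRing R] [Algebra k R] (r s : R), cpt π r * cpt π s = cpt π (r + s)
  central : ∀ (R : Type u) [CommRing R] [Algebra k R] (r : R) (g : WithConv (A →ₐ[k] R)), g * cpt π r = cpt π r * g
  surj : Function.Surjective π

/-- The translation coaction. -/
def coact (π : A →ₐ[k] k[X]) : A →ₐ[k] A[X] :=
  (toConv (Polynomial.CAlgHom : A →ₐ[k] A[X]) * cpt π (Polynomial.X : A[X])).ofConv

/-- The invariant functions. -/
def invariants (π : A →ₐ[k] k[X]) : Subalgebra k A := AlgHom.equalizer (coact π) Polynomial.CAlgHom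

theorem mem_invariants {π : A →ₐ[k] k[X]} {a : A} : a ∈ invariants π ↔ coact π a = Polynomial.C a := Iff.rfl

theorem post_mul {R R' : Type u} [CommRing R] [Algebra k R] [CommRing R'] [Algebra k R'] (φ : R →ₐ[k] R')
    (f g : WithConv (A →ₐ[k] R)) :
    toConv (φ.comp (f * g).ofConv) = toConv (φ.comp f.ofConv) * toConv (φ.comp g.ofConv) :=
  DynLim23.comp_mul φ f g

theorem map_comp_comul {C C' : Type u} [CommRing C] [Algebra k C] [CommRing C'] [Algebra k C'] (f : A →ₐ[k] C)
    (g : A →ₐ[k] C') : toConv ((Algebra.TensorProduct.map f g).comp (Bialgebra.comulAlgHom k A)) =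
      toConv ((Algebra.TensorProduct.includeLeft : C →ₐ[k] C ⊗[k] C').comp f) *
        toConv ((Algebra.TensorProduct.includeRight : C' →ₐ[k] C ⊗[k] C').comp g) := by
  refine WithConv.ofConv_injective (AlgHom.ext fun a => ?_)
  rw [AlgHom.convMul_apply]
  show Algebra.TensorProduct.map f g (comul (R := k) a) = _
  induction comul (R := k) a using TensorProduct.induction_on with
  | zero => simp
  | add p q hp hq => simp only [map_add, hp, hq]
  | tmul p q => simp

theorem mul_apply_mem {C : Type u} [CommRing C] [Algebra k C] (S : Subalgebra k C) (f g : WithConv (A →ₐ[k] C))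
    (hf : ∀ a, f.ofConv a ∈ S) (hg : ∀ a, g.ofConv a ∈ S) (a : A) : (f * g).ofConv a ∈ S := by
  rw [AlgHom.convMul_apply]
  induction comul (R := k) a using TensorProduct.induction_on with
  | zero => simp [S.zero_mem]
  | add p q hp hq => simp only [map_add] at hp hq ⊢; exact S.add_mem hp hq
  | tmul p q => simpa using S.mul_mem (hf p) (hg q)

theorem cpt_comp (π : A →ₐ[k] k[X]) {R R' : Type u} [CommRing R] [Algebra k R] [CommRing R'] [Algebra k R']
    (φ : R →ₐ[k] R') (r : R) : toConv (φ.comp (cpt π r).ofConv) = cpt π (φ r) := by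
  rw [cpt, cpt, ofConv_toConv, ← AlgHom.comp_assoc, ← Polynomial.aeval_algHom]

namespace IsCurve

variable {π : A →ₐ[k] k[X]} (hπ : IsCurve π)

include hπ in
theorem cpt_zero (R : Type u) [CommRing R] [Algebra k R] : cpt π (0 : R) = 1 := by
  have h := hπ.add R 0 0
  rw [add_zero] at h
  exact mul_eq_left.1 h

include hπ in
theorem cpt_neg (R : Type u) [CommRing R] [Algebra k R] (r : R) : (cpt π r)⁻¹ = cpt π (-r) :=
  inv_eq_of_mul_eq_one_right (by rw [hπ.add, add_neg_cancel, hπ.cpt_zero])

/-- The coaction on points. -/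
theorem eval_coact {R : Type u} [CommRing R] [Algebra k R] (g : A →ₐ[k] R) (r : R) :
    toConv ((Polynomial.aevalTower g r).comp (coact π)) = toConv g * cpt π r := by
  rw [coact, post_mul, cpt_comp, ofConv_toConv, Polynomial.aevalTower_X]
  congr 2
  exact AlgHom.ext fun a => Polynomial.aevalTower_C g r a

theorem eval_coact_apply {R : Type u} [CommRing R] [Algebra k R] (g : A →ₐ[k] R) (r : R) (a : A) :
    Polynomial.aevalTower g r (coact π a) = (toConv g * cpt π r).ofConv a := by
  rw [← eval_coact g r]
  rfl

theorem invariant_apply {a : A} (ha : a ∈ invariants π) {R : Type u} [CommRing R] [Algebra k R]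
    (g : WithConv (A →ₐ[k] R)) (r : R) : (g * cpt π r).ofConv a = g.ofConv a := by
  rw [show g = toConv g.ofConv from rfl, ← eval_coact_apply, mem_invariants.1 ha, Polynomial.aevalTower_C]

include hπ in
theorem coeff_zero (a : A) : (coact π a).coeff 0 = a := by
  have h := eval_coact_apply (π := π) (AlgHom.id k A) (0 : A) a
  rw [hπ.cpt_zero, mul_one, ofConv_toConv, AlgHom.id_apply] at h
  refine Eq.trans ?_ h
  generalize coact π a = P
  induction P using Polynomial.induction_on' with
  | add P Q hP hQ => simp only [Polynomial.coeff_add, map_add, hP, hQ]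
  | monomial n b =>
    rw [← Polynomial.C_mul_X_pow_eq_monomial, map_mul, map_pow, Polynomial.aevalTower_C, Polynomial.aevalTower_X]
    rcases n with _ | n <;> simp

include hπ in
theorem mem_invariants_of_natDegree {a : A} (ha : (coact π a).natDegree = 0) : a ∈ invariants π := by
  rw [mem_invariants, Polynomial.eq_C_of_natDegree_eq_zero ha, hπ.coeff_zero]

theorem coeff_shift (P : A[X]) (i j : ℕ) :
    ((P.eval₂ (Polynomial.C.comp Polynomial.C) (Polynomial.C Polynomial.X + Polynomial.X)).coeff j : A[X]).coeff i =
      ((i + j).choose j : A) * P.coeff (i + j) := by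
  induction P using Polynomial.induction_on' with
  | add P Q hP hQ => simp only [Polynomial.eval₂_add, Polynomial.coeff_add, hP, hQ, mul_add]
  | monomial n b =>
    rw [Polynomial.eval₂_monomial, RingHom.comp_apply, Polynomial.coeff_C_mul, Polynomial.coeff_C_mul, add_comm (Polynomial.C _),
      Polynomial.coeff_X_add_C_pow, ← Polynomial.C_eq_natCast, Polynomial.coeff_mul_C, Polynomial.coeff_X_pow,
      Polynomial.coeff_monomial]
    split_ifs with h1 h2 h3
    · subst h2; ring
    · rcases le_or_gt j n with hj | hj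
      · exact absurd (show n = i + j by omega) h2
      · rw [Nat.choose_eq_zero_of_lt hj]; simp
    · exact absurd (show i = n - j by omega) h1
    · simp

include hπ in
/-- The coefficients of the coaction of a coefficient. -/
theorem coeff_coeff (a : A) (i j : ℕ) :
    (coact π ((coact π a).coeff j)).coeff i = ((i + j).choose j : A) * (coact π a).coeff (i + j) := by
  let CC : A →ₐ[k] A[X][X] := (Polynomial.CAlgHom : A[X] →ₐ[k] A[X][X]).comp Polynomial.CAlgHom
  let g : A →ₐ[k] A[X][X] := (Polynomial.CAlgHom : A[X] →ₐ[k] A[X][X]).comp (coact π)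
  have hg : toConv g = toConv CC * cpt π (Polynomial.C (Polynomial.X : A[X])) := by
    show toConv ((Polynomial.CAlgHom : A[X] →ₐ[k] A[X][X]).comp (coact π)) = _
    rw [coact, post_mul, cpt_comp]
    rfl
  have key : toConv g * cpt π (Polynomial.X : A[X][X]) =
      toConv CC * cpt π (Polynomial.C (Polynomial.X : A[X]) + Polynomial.X) := by
    rw [hg]
    refine Eq.trans ?_ (congrArg (toConv CC * ·) (hπ.add A[X][X] (Polynomial.C Polynomial.X) Polynomial.X))
    exact mul_assoc (G := WithConv (A →ₐ[k] A[X][X])) _ _ _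
  have h := AlgHom.congr_fun (congrArg WithConv.ofConv key) a
  rw [← eval_coact_apply, ← eval_coact_apply] at h
  rw [← coeff_shift]
  have hL : Polynomial.aevalTower g (Polynomial.X : A[X][X]) (coact π a) =
      (coact π a).map (coact π : A →+* A[X]) := rfl
  rw [hL] at h
  have h2 := congrArg (fun Q : A[X][X] => (Q.coeff j).coeff i) h
  simp only [Polynomial.coeff_map] at h2
  exact h2

section degree

variable [IsDomain A]

include hπ

theorem natDegree_coeff_le (a : A) (j : ℕ) :
    (coact π ((coact π a).coeff j)).natDegree ≤ (coact π a).natDegree - j := by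
  refine Polynomial.natDegree_le_iff_coeff_eq_zero.2 fun i hi => ?_
  rw [hπ.coeff_coeff, Polynomial.coeff_eq_zero_of_natDegree_lt (show (coact π a).natDegree < i + j by omega), mul_zero]

theorem leading_mem (a : A) : (coact π a).leadingCoeff ∈ invariants π :=
  hπ.mem_invariants_of_natDegree (Nat.le_zero.1 ((hπ.natDegree_coeff_le a _).trans_eq (Nat.sub_self _)))

omit hπ [IsDomain A] in
theorem coact_invariant_mul {c : A} (hc : c ∈ invariants π) (a : A) :
    coact π (c * a) = Polynomial.C c * coact π a := by
  rw [map_mul, mem_invariants.1 hc]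

variable {f : A} (hd : (coact π f).natDegree ≠ 0)
  (hmin : ∀ a, (coact π a).natDegree ≠ 0 → (coact π f).natDegree ≤ (coact π a).natDegree)
include hd hmin

/-- All degrees are multiples of the least positive one. -/
theorem dvd_natDegree (a : A) : (coact π f).natDegree ∣ (coact π a).natDegree := by
  set d := (coact π f).natDegree with hddef
  set n := (coact π a).natDegree with hn
  rcases Nat.eq_zero_or_pos n with h0 | hpos
  · rw [h0]; exact dvd_zero _
  by_contra hdiv
  set r := n % d with hr
  have hr0 : r ≠ 0 := fun h => hdiv (Nat.dvd_of_mod_eq_zero h)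
  have hrd : r < d := Nat.mod_lt _ (Nat.pos_of_ne_zero hd)
  have hnq : n = n / d * d + r := by rw [hr, mul_comm]; exact (Nat.div_add_mod n d).symm
  -- binomial coefficients below `d` vanish
  have hbin : ∀ j, 0 < j → j < d → (d.choose j : A) = 0 := fun j hj0 hjd => by
    have h1 := hπ.coeff_coeff f (d - j) j
    rw [Nat.sub_add_cancel hjd.le] at h1
    have h2 : (coact π ((coact π f).coeff j)).natDegree = 0 := by
      by_contra h
      exact absurd (hmin _ h) (not_le.2 ((hπ.natDegree_coeff_le f j).trans_lt (by omega)))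
    rw [Polynomial.coeff_eq_zero_of_natDegree_lt (by omega)] at h1
    exact (mul_eq_zero.1 h1.symm).resolve_right
      (Polynomial.leadingCoeff_ne_zero.2 fun h => hd (by rw [hddef, h, Polynomial.natDegree_zero]))
  have hXd : (Polynomial.X + 1 : A[X]) ^ d = Polynomial.X ^ d + 1 := by
    ext j
    rw [Polynomial.coeff_X_add_one_pow, Polynomial.coeff_add, Polynomial.coeff_X_pow, Polynomial.coeff_one]
    rcases eq_or_ne j d with rfl | hjd
    · simp [hd]
    rcases eq_or_ne j 0 with rfl | hj0
    · simp
      exact hjd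
    rcases lt_or_gt_of_ne hjd with h | h
    · rw [hbin j (by omega) h]; simp [hjd, hj0]
    · rw [Nat.choose_eq_zero_of_lt h]; simp [hjd, hj0]
  have hchoose : (n.choose (n / d * d) : A) = 1 := by
    have h1 : ((Polynomial.X + 1 : A[X]) ^ n).coeff r = (n.choose r : A) := Polynomial.coeff_X_add_one_pow A n r
    rw [show n.choose (n / d * d) = n.choose r from Nat.choose_symm_of_eq_add hnq, ← h1]
    conv_lhs => rw [hnq, pow_add, mul_comm (n / d), pow_mul, hXd]
    rw [Polynomial.coeff_mul, Finset.sum_eq_single (0, r)]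
    · rw [Polynomial.coeff_X_add_one_pow, Nat.choose_self, Nat.cast_one, mul_one, Polynomial.coeff_zero_eq_eval_zero]
      simp [Nat.pos_of_ne_zero hd |>.ne']
    · rintro ⟨x, y⟩ hxy hne
      rw [Finset.HasAntidiagonal.mem_antidiagonal] at hxy
      have hx : x ≠ 0 := fun hx => hne (by simp only [Prod.mk.injEq]; exact ⟨hx, by omega⟩)
      suffices ((Polynomial.X ^ d + 1 : A[X]) ^ (n / d)).coeff x = 0 by simp [this]
      rw [show (Polynomial.X ^ d + 1 : A[X]) ^ (n / d) = ((Polynomial.X + 1) ^ (n / d)).comp (Polynomial.X ^ d) by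
        simp [Polynomial.pow_comp], ← Polynomial.expand_eq_comp_X_pow, Polynomial.coeff_expand (Nat.pos_of_ne_zero hd),
        if_neg]
      intro hdx
      exact absurd (Nat.le_of_dvd (Nat.pos_of_ne_zero hx) hdx) (by omega)
    · intro h
      exact absurd (Finset.HasAntidiagonal.mem_antidiagonal.2 (by simp)) h
  have h1 := hπ.coeff_coeff a r (n / d * d)
  rw [show r + n / d * d = n by omega, hchoose, one_mul] at h1
  have h2 : (coact π ((coact π a).coeff (n / d * d))).natDegree = 0 := by
    by_contra h
    exact absurd (hmin _ h) (not_le.2 ((hπ.natDegree_coeff_le a _).trans_lt (by omega)))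
  rw [Polynomial.coeff_eq_zero_of_natDegree_lt (by omega)] at h1
  exact Polynomial.leadingCoeff_ne_zero.2 (fun h => by rw [hn, h, Polynomial.natDegree_zero] at hpos; omega) h1.symm

/-- Every function is a polynomial in `f` over the invariants, up to a power of the leading coefficient. -/
theorem exists_poly (a : A) : ∃ (N : ℕ) (Q : Polynomial (invariants π)),
    (coact π f).leadingCoeff ^ N * a = Q.eval₂ (invariants π).val.toRingHom f := by
  induction hn : (coact π a).natDegree using Nat.strong_induction_on generalizing a with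
  | _ n ih =>
    rcases Nat.eq_zero_or_pos n with h0 | hpos
    · exact ⟨0, Polynomial.C ⟨a, hπ.mem_invariants_of_natDegree (hn.trans h0)⟩, by simp⟩
    obtain ⟨q, hq⟩ := hπ.dvd_natDegree hd hmin a
    set c := (coact π f).leadingCoeff
    set an := (coact π a).leadingCoeff
    have hc : c ∈ invariants π := hπ.leading_mem f
    have han : an ∈ invariants π := hπ.leading_mem a
    let a' := c ^ q * a - an * f ^ q
    have hτ : coact π a' = Polynomial.C (c ^ q) * coact π a - Polynomial.C an * coact π f ^ q := by
      simp only [a', map_sub, coact_invariant_mul (pow_mem hc q), coact_invariant_mul han, map_pow]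
    have hfq : (coact π f ^ q).natDegree = n := by rw [Polynomial.natDegree_pow, ← hn, hq, mul_comm]
    have hlt : (coact π a').natDegree < n := by
      have hle : (coact π a').natDegree ≤ n := by
        rw [hτ]
        refine (Polynomial.natDegree_sub_le _ _).trans (max_le ?_ ?_)
        · exact (Polynomial.natDegree_C_mul_le _ _).trans hn.le
        · exact (Polynomial.natDegree_C_mul_le _ _).trans hfq.le
      refine lt_of_le_of_ne hle fun he => ?_
      have : (coact π a').coeff n = 0 := by
        have h3 : (coact π f ^ q).coeff n = c ^ q := by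
          rw [← hfq, Polynomial.coeff_natDegree, Polynomial.leadingCoeff_pow]
        rw [hτ, Polynomial.coeff_sub, Polynomial.coeff_C_mul, Polynomial.coeff_C_mul, h3, ← hn,
          Polynomial.coeff_natDegree]
        ring
      rw [← he, Polynomial.coeff_natDegree, Polynomial.leadingCoeff_eq_zero] at this
      rw [this, Polynomial.natDegree_zero] at he
      omega
    obtain ⟨N, Q, hQ⟩ := ih _ hlt a' rfl
    refine ⟨N + q, Q + Polynomial.C (⟨c, hc⟩ ^ N * ⟨an, han⟩) * Polynomial.X ^ q, ?_⟩
    rw [Polynomial.eval₂_add, Polynomial.eval₂_mul, Polynomial.eval₂_X_pow, Polynomial.eval₂_C, ← hQ]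
    simp only [AlgHom.toRingHom_eq_coe, RingHom.coe_coe, map_mul, map_pow, Subalgebra.coe_val, a']
    ring

omit hd hmin in
theorem translate_surjective (u : A →ₐ[k] k) :
    Function.Surjective (toConv ((Algebra.ofId k k[X]).comp u) * cpt π (Polynomial.X : k[X])).ofConv := by
  set v : WithConv (A →ₐ[k] k[X]) := toConv ((Algebra.ofId k k[X]).comp u)
  set g := v * cpt π (Polynomial.X : k[X])
  intro z
  obtain ⟨a, ha⟩ := hπ.surj z
  have hz : (cpt π (Polynomial.X : k[X])).ofConv a = z := by
    rw [cpt, ofConv_toConv, Polynomial.aeval_X_left, AlgHom.id_comp, ha]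
  rw [show cpt π (Polynomial.X : k[X]) = v⁻¹ * g from (inv_mul_cancel_left v _).symm] at hz
  exact hz ▸ mul_apply_mem g.ofConv.range v⁻¹ g (fun b => Subalgebra.algebraMap_mem g.ofConv.range _)
    (fun b => ⟨b, rfl⟩) a

variable [IsAlgClosed k] [Algebra.FiniteType k A]

/-- The least positive degree is one. -/
theorem natDegree_eq_one : (coact π f).natDegree = 1 := by
  set c := (coact π f).leadingCoeff
  obtain ⟨u, hu⟩ : ∃ u : A →ₐ[k] k, u c ≠ 0 := by
    by_contra! h
    exact hd (by rw [Polynomial.leadingCoeff_eq_zero.1 (GeomIrr.eq_zero_of_forall_algHom h), Polynomial.natDegree_zero])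
  set g := (toConv ((Algebra.ofId k k[X]).comp u) * cpt π (Polynomial.X : k[X])).ofConv
  have hinv : ∀ x : invariants π, g x.1 = Polynomial.C (u x.1) := fun x => by
    rw [show g x.1 = _ from invariant_apply x.2 _ _]
    rfl
  have hgτ : ∀ a, g a = (coact π a).map (u : A →+* k) := fun a => by
    rw [show g a = _ from (eval_coact_apply _ _ a).symm]
    generalize coact π a = P
    induction P using Polynomial.induction_on' with
    | add P Q hP hQ => simp only [map_add, Polynomial.map_add, hP, hQ]
    | monomial n b =>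
      rw [← Polynomial.C_mul_X_pow_eq_monomial, map_mul, map_pow, Polynomial.aevalTower_C, Polynomial.aevalTower_X,
        Polynomial.map_mul, Polynomial.map_C, Polynomial.map_pow, Polynomial.map_X]
      rfl
  have hdf : (g f).natDegree = (coact π f).natDegree := by
    rw [hgτ, Polynomial.natDegree_map_of_leadingCoeff_ne_zero]
    exact hu
  obtain ⟨h, hh⟩ := hπ.translate_surjective u Polynomial.X
  change g h = Polynomial.X at hh
  obtain ⟨N, Q, hQ⟩ := hπ.exists_poly hd hmin h
  have := congrArg g hQ
  rw [map_mul, map_pow, hh, hinv ⟨c, hπ.leading_mem f⟩, ← Polynomial.C_pow,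
    show g (Q.eval₂ (invariants π).val.toRingHom f) = (Q.map ((u : A →+* k).comp (invariants π).val.toRingHom)).comp (g f) by
      rw [Polynomial.comp, Polynomial.eval₂_map, show g (Q.eval₂ _ f) = _ from Polynomial.hom_eval₂ Q _ g.toRingHom f]
      refine Polynomial.eval₂_congr (RingHom.ext fun x => ?_) rfl rfl
      exact hinv x] at this
  have hdeg := congrArg Polynomial.natDegree this
  rw [Polynomial.natDegree_C_mul_X _ (pow_ne_zero _ hu), Polynomial.natDegree_comp, hdf] at hdeg
  exact (Nat.eq_one_of_mul_eq_one_left hdeg.symm)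

end degree

variable [IsDomain A] [IsAlgClosed k] [Algebra.FiniteType k A]

include hπ in
/-- A function shifted linearly along the curve. -/
theorem exists_slice : ∃ f c : A, c ≠ 0 ∧ c ∈ invariants π ∧ coact π f = Polynomial.C f + Polynomial.C c * Polynomial.X ∧
    ∀ a, ∃ (N : ℕ) (Q : Polynomial (invariants π)), c ^ N * a = Q.eval₂ (invariants π).val.toRingHom f := by
  classical
  obtain ⟨a, ha⟩ : ∃ a, (coact π a).natDegree ≠ 0 := by
    by_contra! h
    obtain ⟨a, ha⟩ := hπ.surj Polynomial.X
    have hinv := hπ.mem_invariants_of_natDegree (h a)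
    have h1 := invariant_apply (π := π) hinv (1 : WithConv (A →ₐ[k] k[X])) (Polynomial.X : k[X])
    rw [one_mul, cpt, ofConv_toConv, Polynomial.aeval_X_left, AlgHom.id_comp, ha] at h1
    have := congrArg Polynomial.natDegree h1
    rw [Polynomial.natDegree_X, show (1 : WithConv (A →ₐ[k] k[X])).ofConv a =
      algebraMap k k[X] (counit (R := k) a) from rfl, Polynomial.algebraMap_eq, Polynomial.natDegree_C] at this
    omega
  have hex : ∃ n, ∃ a, (coact π a).natDegree ≠ 0 ∧ (coact π a).natDegree = n := ⟨_, a, ha, rfl⟩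
  obtain ⟨f, hf, hfn⟩ := Nat.find_spec hex
  have hmin : ∀ a, (coact π a).natDegree ≠ 0 → (coact π f).natDegree ≤ (coact π a).natDegree := fun a ha =>
    hfn ▸ Nat.find_min' hex ⟨a, ha, rfl⟩
  have h1 := hπ.natDegree_eq_one hf hmin
  refine ⟨f, (coact π f).leadingCoeff, Polynomial.leadingCoeff_ne_zero.2 fun h => hf (by rw [h, Polynomial.natDegree_zero]),
    hπ.leading_mem f, ?_, hπ.exists_poly hf hmin⟩
  conv_lhs => rw [Polynomial.eq_X_add_C_of_natDegree_le_one h1.le, hπ.coeff_zero]
  rw [Polynomial.leadingCoeff, h1, add_comm]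

section sub

omit [IsDomain A] [IsAlgClosed k] [Algebra.FiniteType k A]

include hπ in
theorem isSub_invariants : HopfFlat.IsSub (invariants π) := by
  constructor
  · intro a ha
    let D : A →ₗ[k] A[X] := (coact π).toLinearMap - (Polynomial.CAlgHom : A →ₐ[k] A[X]).toLinearMap
    have hex : Function.Exact (invariants π).toSubmodule.subtype D := fun x => by
      refine ⟨fun hx => ⟨⟨x, sub_eq_zero.1 hx⟩, rfl⟩, ?_⟩
      rintro ⟨y, rfl⟩
      exact sub_eq_zero.2 y.2
    have hl : D.rTensor A (comul (R := k) a) = 0 := by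
      let L : A →ₐ[k] A[X] ⊗[k] A := (Algebra.TensorProduct.includeLeft : A[X] →ₐ[k] A[X] ⊗[k] A).comp Polynomial.CAlgHom
      let R : A →ₐ[k] A[X] ⊗[k] A := Algebra.TensorProduct.includeRight
      let x : A[X] ⊗[k] A := (Polynomial.X : A[X]) ⊗ₜ[k] (1 : A)
      have h1 : toConv ((Algebra.TensorProduct.map (coact π) (AlgHom.id k A)).comp (Bialgebra.comulAlgHom k A)) =
          toConv L * toConv R * cpt π x := by
        rw [map_comp_comul, coact, post_mul, cpt_comp, AlgHom.comp_id, ofConv_toConv, mul_assoc]
        refine (congrArg (_ * ·) (hπ.central _ x (toConv R)).symm).trans ?_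
        rw [← mul_assoc]
      have h2 : toConv ((Algebra.TensorProduct.map (Polynomial.CAlgHom : A →ₐ[k] A[X]) (AlgHom.id k A)).comp
          (Bialgebra.comulAlgHom k A)) = toConv L * toConv R := by
        rw [map_comp_comul, AlgHom.comp_id]
      have h3 := AlgHom.congr_fun (congrArg WithConv.ofConv h1) a
      rw [invariant_apply ha, ← h2] at h3
      simp only [D, LinearMap.rTensor_sub, LinearMap.sub_apply, sub_eq_zero]
      exact h3
    obtain ⟨y, hy⟩ := (Module.Flat.rTensor_exact A hex _).1 hl
    have hr : D.lTensor A (comul (R := k) a) = 0 := by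
      let L : A →ₐ[k] A ⊗[k] A[X] := Algebra.TensorProduct.includeLeft
      let R : A →ₐ[k] A ⊗[k] A[X] := (Algebra.TensorProduct.includeRight : A[X] →ₐ[k] A ⊗[k] A[X]).comp Polynomial.CAlgHom
      let x : A ⊗[k] A[X] := (1 : A) ⊗ₜ[k] (Polynomial.X : A[X])
      have h1 : toConv ((Algebra.TensorProduct.map (AlgHom.id k A) (coact π)).comp (Bialgebra.comulAlgHom k A)) =
          toConv L * toConv R * cpt π x := by
        rw [map_comp_comul, coact, post_mul, cpt_comp, AlgHom.comp_id, ofConv_toConv, ← mul_assoc]
        rfl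
      have h2 : toConv ((Algebra.TensorProduct.map (AlgHom.id k A) (Polynomial.CAlgHom : A →ₐ[k] A[X])).comp
          (Bialgebra.comulAlgHom k A)) = toConv L * toConv R := by
        rw [map_comp_comul, AlgHom.comp_id]
      have h3 := AlgHom.congr_fun (congrArg WithConv.ofConv h1) a
      rw [invariant_apply ha, ← h2] at h3
      simp only [D, LinearMap.lTensor_sub, LinearMap.sub_apply, sub_eq_zero]
      exact h3
    have hy' : D.lTensor (invariants π).toSubmodule y = 0 := by
      refine Module.Flat.rTensor_preserves_injective_linearMap (M := A[X]) (invariants π).toSubmodule.subtype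
        Subtype.val_injective ?_
      rw [map_zero, ← LinearMap.comp_apply, LinearMap.rTensor_comp_lTensor, ← LinearMap.lTensor_comp_rTensor,
        LinearMap.comp_apply, hy, hr]
    obtain ⟨z, hz⟩ := (Module.Flat.lTensor_exact (invariants π).toSubmodule hex _).1 hy'
    refine ⟨z, ?_⟩
    rw [← hy, ← hz, ← LinearMap.comp_apply, LinearMap.rTensor_comp_lTensor]
    rfl
  · intro a ha
    rw [mem_invariants]
    have h1 : toConv ((coact π).comp (HopfAlgebra.antipodeAlgHom k A)) =
        (toConv (Polynomial.CAlgHom : A →ₐ[k] A[X]))⁻¹ * cpt π (-(Polynomial.X : A[X])) := by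
      show (toConv (coact π))⁻¹ = _
      rw [coact, toConv_ofConv, mul_inv_rev, hπ.cpt_neg, hπ.central]
    exact (AlgHom.congr_fun (congrArg WithConv.ofConv h1) a).trans (invariant_apply ha _ _)

variable [Algebra.FiniteType k A]

include hπ in
theorem fg_invariants : (invariants π).FG := by
  classical
  have hB := hπ.isSub_invariants
  haveI : IsNoetherianRing A := Algebra.FiniteType.isNoetherianRing k A
  obtain ⟨s, hs, hs'⟩ := Submodule.fg_span_iff_fg_span_finset_subset {a : A | a ∈ invariants π ∧ counit (R := k) a = 0} |>.1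
    (IsNoetherian.noetherian (Ideal.span {a : A | a ∈ invariants π ∧ counit (R := k) a = 0}))
  obtain ⟨B₀, hB₀, hfg, hle, hsub⟩ := HopfPts19.IsSub.exists_fg_le (B := invariants π) ⟨hB.1, hB.2⟩ s
    fun x hx => (hs hx).1
  have hB₀' : HopfFlat.IsSub B₀ := ⟨hB₀.1, hB₀.2⟩
  haveI := hB.isHopfIdeal
  have heq : HopfFlat.augJ (invariants π) = HopfFlat.augJ B₀ := by
    refine le_antisymm ?_ (Ideal.span_mono fun x hx => ⟨hle hx.1, hx.2⟩)
    show Submodule.span A _ ≤ _
    rw [hs']
    exact Submodule.span_le.2 fun x hx => Ideal.subset_span ⟨hsub hx, (hs hx).2⟩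
  rwa [← NormQuot.coinv_augJ_eq hB rfl, NormQuot.coinv_augJ_eq hB₀' heq]

end sub

include hπ in
/-- The group is birational to a quotient group times the line. -/
theorem exists_quotient : ∃ (B : Type u) (_ : CommRing B) (_ : HopfAlgebra k B) (_ : Algebra.FiniteType k B)
    (_ : IsDomain B) (j : B →ₐc[k] A), Function.Injective j ∧
      Nonempty (FractionRing A ≃ₐ[k] FractionRing (Polynomial B)) := by
  obtain ⟨f, c, hc0, hc, hτf, hpoly⟩ := hπ.exists_slice
  obtain ⟨B, _, _, hBft, j, hj, hrange⟩ := HopfPts19.exists_hopf_fg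
    (T := invariants π) ⟨hπ.isSub_invariants.1, hπ.isSub_invariants.2⟩ hπ.fg_invariants
  haveI : IsDomain B := hj.isDomain j
  let φ : Polynomial B →ₐ[k] A := Polynomial.aevalTower (j : B →ₐ[k] A) f
  have hmem : ∀ b, j b ∈ invariants π := fun b => hrange ▸ ⟨b, rfl⟩
  have hdivA : ∀ x : invariants π, ∃ b, j b = x.1 := fun x => by
    have h : x.1 ∈ (j : B →ₐ[k] A).range := hrange.symm ▸ x.2
    exact h
  choose pre hpre using hdivA
  refine ⟨B, inferInstance, inferInstance, hBft, inferInstance, j, hj, ⟨(fractionEquiv_of_div φ ?_ fun a => ?_).some.symm⟩⟩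
  · refine (injective_iff_map_eq_zero φ).2 fun P hP => ?_
    have h1 := congrArg (coact π) hP
    rw [map_zero, show coact π (φ P) = _ from Polynomial.hom_eval₂ P _ (coact π).toRingHom f] at h1
    have h2 : (P.map (j : B →+* A)).comp (Polynomial.C f + Polynomial.C c * Polynomial.X) = 0 := by
      rw [Polynomial.comp, Polynomial.eval₂_map, ← hτf, ← h1]
      exact Polynomial.eval₂_congr (RingHom.ext fun b => (mem_invariants.1 (hmem b)).symm) rfl rfl
    rcases Polynomial.comp_eq_zero_iff.1 h2 with h | ⟨-, h⟩
    · exact (Polynomial.map_eq_zero_iff hj).1 h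
    · have := congrArg (fun Q : A[X] => Q.coeff 1) h
      simp at this
      exact absurd this hc0
  · obtain ⟨N, Q, hQ⟩ := hpoly a
    refine ⟨∑ i ∈ Q.support, Polynomial.C (pre (Q.coeff i)) * Polynomial.X ^ i, Polynomial.C (pre ⟨c, hc⟩ ^ N), ?_, ?_⟩
    · simp [φ, hpre, hc0]
    · have : φ (∑ i ∈ Q.support, Polynomial.C (pre (Q.coeff i)) * Polynomial.X ^ i) =
          Q.eval₂ (invariants π).val.toRingHom f := by
        rw [Polynomial.eval₂_eq_sum, Polynomial.sum_def, map_sum]
        exact Finset.sum_congr rfl fun i _ => by simp [φ, hpre]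
      rw [this, ← hQ]
      simp [φ, hpre, mul_comm]

end IsCurve

end Groth.Agent.RatGrp14
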